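import Mathlib.GroupTheory.Sylow
import Mathlib.GroupTheory.SpecificGroups.Cyclic
import Mathlib.GroupTheory.Index
import Mathlib.GroupTheory.Perm.Cycle.Type
import Mathlib.Data.Nat.Prime.Factorial
import Mathlib.Tactic.NormNum.Prime
import Mathlib.Tactic.IntervalCases
import Mathlib.Tactic.Linarith
import Mathlib.Tactic.Ring
import Mathlib.Tactic.Group

/-!
# Strongly embedded subgroups: the endgame of the field prime step (H1 v2, 4f)

`V` is elementary abelian of order `2 ^ p`, `A` a cyclic group regular on `V∖{1}`, `f` an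
automorphism of order `p` normalising `A` whose fixed points are `1` and `t`, and the stabiliser
of `t` in `L` preserves the orbits of `f`.  Then `L` has no involution.
-/

namespace Cfsg.Agent.H70.SE

universe u

namespace Endgame

variable {V : Type u} [Group V]

theorem comm_of_sq (hsq : ∀ v : V, v * v = 1) (a b : V) : a * b = b * a := by
  have ha : a⁻¹ = a := inv_eq_of_mul_eq_one_right (hsq a)
  have hb : b⁻¹ = b := inv_eq_of_mul_eq_one_right (hsq b)
  have hab : (a * b)⁻¹ = a * b := inv_eq_of_mul_eq_one_right (hsq (a * b))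
  rw [mul_inv_rev, ha, hb] at hab
  exact hab.symm

/-- The map `v ↦ v * g v`. -/
def delta (hsq : ∀ v : V, v * v = 1) (g : MulAut V) : V →* V :=
  MonoidHom.mk' (fun v => v * g v) fun a b => by
    show a * b * g (a * b) = a * g a * (b * g b)
    rw [map_mul, mul_assoc a b, ← mul_assoc b, comm_of_sq hsq b (g a)]
    simp only [mul_assoc]

theorem delta_apply (hsq : ∀ v : V, v * v = 1) (g : MulAut V) (v : V) :
    delta hsq g v = v * g v := rfl

theorem delta_eq_one (hsq : ∀ v : V, v * v = 1) (g : MulAut V) (v : V) :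
    delta hsq g v = 1 ↔ g v = v := by
  rw [delta_apply]
  constructor
  · intro h
    have h1 := congrArg (v * ·) h
    simpa [← mul_assoc, hsq] using h1
  · intro h
    rw [h, hsq]

theorem pow_apply_of_fix (g : MulAut V) (v : V) (h : g v = v) : ∀ n : ℕ, (g ^ n) v = v := by
  intro n
  induction n with
  | zero => simp
  | succ n ih => rw [pow_succ, MulAut.mul_apply, h, ih]

/-- A power of `f` not in the kernel has the same fixed points. -/
theorem fix_of_pow_fix {p : ℕ} (hp : p.Prime) (f : MulAut V) (hford : orderOf f = p) (k : ℕ)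
    (hk : ¬ p ∣ k) (v : V) (h : (f ^ k) v = v) : f v = v := by
  have hcop : k.Coprime (orderOf f) := by
    rw [hford]
    exact (hp.coprime_iff_not_dvd.2 hk).symm
  obtain ⟨n, hn⟩ := exists_pow_eq_self_of_coprime hcop
  rw [← hn]
  exact pow_apply_of_fix _ v h n

/-- An integral power of `f` is a power with exponent below `p`. -/
theorem exists_pow_eq {p : ℕ} (hp : p.Prime) (f : MulAut V) (hford : orderOf f = p) (k : ℤ) :
    ∃ n : ℕ, n < p ∧ f ^ n = f ^ k := by
  have hp0 : (0 : ℤ) < p := by exact_mod_cast hp.pos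
  refine ⟨(k % (p : ℤ)).toNat, ?_, ?_⟩
  · have h1 := Int.emod_lt_of_pos k hp0
    have h2 := Int.emod_nonneg k hp0.ne'
    omega
  · rw [← zpow_natCast, Int.toNat_of_nonneg (Int.emod_nonneg k hp0.ne'), ← hford,
      zpow_mod_orderOf]

variable [Finite V]

/-- The orbit of `v` under `f`. -/
noncomputable def orb (p : ℕ) (f : MulAut V) (v : V) : Finset V :=
  letI := Classical.decEq V
  (Finset.range p).image fun j : ℕ => (f ^ j) v

theorem mem_orb {p : ℕ} {f : MulAut V} {v w : V} :
    w ∈ orb p f v ↔ ∃ j : ℕ, j < p ∧ (f ^ j) v = w := by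
  simp [orb]

theorem zpow_mem_orb {p : ℕ} (hp : p.Prime) {f : MulAut V} (hford : orderOf f = p) (v : V)
    (k : ℤ) : (f ^ k) v ∈ orb p f v := by
  obtain ⟨n, hn, he⟩ := exists_pow_eq hp f hford k
  exact mem_orb.2 ⟨n, hn, by rw [he]⟩

theorem card_orb {p : ℕ} (hp : p.Prime) {f : MulAut V} (hford : orderOf f = p) {v : V}
    (hv : f v ≠ v) : (orb p f v).card = p := by
  classical
  unfold orb
  rw [Finset.card_image_of_injOn, Finset.card_range]
  have key : ∀ i j : ℕ, i < j → j < p → (f ^ i) v ≠ (f ^ j) v := by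
    intro i j hij hj h
    apply hv
    apply fix_of_pow_fix hp f hford (j - i)
    · intro hd
      have := Nat.le_of_dvd (by omega) hd
      omega
    · apply (f ^ i).injective
      rw [← MulAut.mul_apply, ← pow_add, Nat.add_sub_cancel' hij.le]
      exact h.symm
  intro i hi j hj h
  simp only [Finset.coe_range, Set.mem_Iio] at hi hj
  by_contra hne
  rcases lt_or_gt_of_ne hne with hlt | hlt
  · exact key i j hlt hj h
  · exact key j i hlt hi h.symm

/-- An involution preserving the orbit of a moved point fixes a point of it. -/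
theorem exists_fix_in_orb {p : ℕ} (hp : p.Prime) (hp2 : p ≠ 2) {f y : MulAut V}
    (hford : orderOf f = p) (hy : y * y = 1) (hyorb : ∀ v, ∃ k : ℤ, y v = (f ^ k) v) {v : V}
    (hv : f v ≠ v) : ∃ j : ℕ, j < p ∧ y ((f ^ j) v) = (f ^ j) v := by
  classical
  have hmem : ∀ w ∈ orb p f v, y w ∈ orb p f v := by
    intro w hw
    obtain ⟨j, _, rfl⟩ := mem_orb.1 hw
    obtain ⟨k, hk⟩ := hyorb ((f ^ j) v)
    rw [hk, ← zpow_natCast, ← MulAut.mul_apply, ← zpow_add]
    exact zpow_mem_orb hp hford v _
  have hinv : ∀ w, y (y w) = w := by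
    intro w
    rw [← MulAut.mul_apply, hy, MulAut.one_apply]
  let σ : Equiv.Perm ↥(orb p f v) :=
    Function.Involutive.toPerm (fun x => ⟨y x.1, hmem x.1 x.2⟩) (fun x => Subtype.ext (hinv x.1))
  have hσ : σ ^ 2 ^ 1 = 1 := by
    refine Equiv.ext fun x => ?_
    rw [pow_one, pow_two]
    exact Subtype.ext (hinv x.1)
  haveI : Fact (Nat.Prime 2) := ⟨Nat.prime_two⟩
  have hodd : ¬ 2 ∣ Fintype.card ↥(orb p f v) := by
    rw [Fintype.card_coe, card_orb hp hford hv]
    intro hd
    exact hp2 ((Nat.prime_dvd_prime_iff_eq Nat.prime_two hp).1 hd).symm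
  obtain ⟨x, hx⟩ := Equiv.Perm.exists_fixed_point_of_prime hodd hσ
  obtain ⟨j, hj, hjx⟩ := mem_orb.1 x.2
  refine ⟨j, hj, ?_⟩
  rw [hjx]
  exact congrArg Subtype.val hx

/-- The two counts: every point is an `f`-translate of a fixed point of `y`, and the points with
`y v = f ^ i v` lie in few cosets of `{1, t}`. -/
theorem counts (hsq : ∀ v : V, v * v = 1) {p : ℕ} (hp : p.Prime) (hp2 : p ≠ 2) {f y : MulAut V}
    (hford : orderOf f = p) {t : V} (ht : t ≠ 1) (hft : f t = t) (hyt : y t = t) (hy : y * y = 1)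
    (honly : ∀ v, f v = v → v = 1 ∨ v = t) (hyorb : ∀ v, ∃ k : ℤ, y v = (f ^ k) v) :
    Nat.card V ≤ 2 + p * (Nat.card (delta hsq y).ker - 2) ∧
      Nat.card V ≤ Nat.card (delta hsq y).ker + (p - 1) * (2 * Nat.card (delta hsq y).range) ∧
      Nat.card (delta hsq y).ker * Nat.card (delta hsq y).range = Nat.card V := by
  classical
  letI := Fintype.ofFinite V
  set F : Finset V := Finset.univ.filter fun v => y v = v with hF
  have hFcard : Nat.card (delta hsq y).ker = F.card := by
    rw [Nat.subtype_card F fun v => by simp [hF, MonoidHom.mem_ker, delta_eq_one]]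
  refine ⟨?_, ?_, ?_⟩
  · set F' : Finset V := (F.erase 1).erase t with hF'
    have hF'card : F'.card = F.card - 2 := by
      rw [hF', Finset.card_erase_of_mem (by simp [hF, hyt, ht]),
        Finset.card_erase_of_mem (by simp [hF])]
      omega
    have hsub : (Finset.univ : Finset V) ⊆
        {1, t} ∪ (F' ×ˢ Finset.range p).image fun x : V × ℕ => (f ^ x.2) x.1 := by
      intro v _
      rw [Finset.mem_union]
      by_cases hv : f v = v
      · left
        rcases honly v hv with h | h <;> simp [h]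
      · right
        obtain ⟨j, hj, hjy⟩ := exists_fix_in_orb hp hp2 hford hy hyorb hv
        obtain ⟨k, hk, hkj⟩ := exists_pow_eq hp f hford (-(j : ℤ))
        have hne : ∀ w : V, f w = w → (f ^ j) v ≠ w := by
          intro w hw hjw
          apply hv
          have : v = w := by
            apply (f ^ j).injective
            rw [hjw, pow_apply_of_fix f w hw j]
          rw [this, hw]
        refine Finset.mem_image.2 ⟨((f ^ j) v, k), ?_, ?_⟩
        · simp only [Finset.mem_product, Finset.mem_range, hF', hF, Finset.mem_erase,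
            Finset.mem_filter, Finset.mem_univ, true_and]
          exact ⟨⟨hne t hft, hne 1 (map_one f), hjy⟩, hk⟩
        · show (f ^ k) ((f ^ j) v) = v
          rw [hkj, ← MulAut.mul_apply, ← zpow_natCast f j, ← zpow_add, neg_add_cancel, zpow_zero,
            MulAut.one_apply]
    calc Nat.card V = (Finset.univ : Finset V).card := by rw [Nat.card_eq_fintype_card]; rfl
      _ ≤ _ := Finset.card_le_card hsub
      _ ≤ ({1, t} : Finset V).card + _ := Finset.card_union_le _ _
      _ ≤ 2 + p * (Nat.card (delta hsq y).ker - 2) := by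
        refine Nat.add_le_add Finset.card_le_two ?_
        refine Finset.card_image_le.trans ?_
        rw [Finset.card_product, Finset.card_range, hF'card, hFcard, Nat.mul_comm]
  · set P : ℕ → Finset V := fun i => Finset.univ.filter fun v => y v = (f ^ i) v with hP
    have hsub : (Finset.univ : Finset V) ⊆ F ∪ (Finset.Ico 1 p).biUnion P := by
      intro v _
      obtain ⟨k, hk⟩ := hyorb v
      obtain ⟨n, hn, he⟩ := exists_pow_eq hp f hford k
      rw [Finset.mem_union]
      rcases Nat.eq_zero_or_pos n with h0 | h0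
      · left
        simp only [hF, Finset.mem_filter, Finset.mem_univ, true_and]
        rw [hk, ← he, h0, pow_zero, MulAut.one_apply]
      · right
        refine Finset.mem_biUnion.2 ⟨n, Finset.mem_Ico.2 ⟨h0, hn⟩, ?_⟩
        simp [hP, hk, he]
    have hR : Nat.card (delta hsq y).range
        = (Finset.univ.image (delta hsq y) : Finset V).card :=
      Nat.subtype_card _ fun v => by simp [MonoidHom.mem_range]
    have hPc : ∀ i ∈ Finset.Ico 1 p, (P i).card ≤ 2 * Nat.card (delta hsq y).range := by
      intro i hi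
      rw [Finset.mem_Ico] at hi
      refine le_trans (Finset.card_le_mul_card_image (f := delta hsq y) _ 2 ?_) ?_
      · intro b hb
        obtain ⟨v₀, hv₀, rfl⟩ := Finset.mem_image.1 hb
        refine le_trans (Finset.card_le_card (t := {v₀, v₀ * t}) ?_) Finset.card_le_two
        intro v hv
        simp only [Finset.mem_filter, hP, Finset.mem_univ, true_and] at hv hv₀
        have hfix : (f ^ i) (v₀ * v) = v₀ * v := by
          rw [← delta_eq_one hsq, map_mul, delta_apply, delta_apply, ← hv₀, ← hv.1,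
            ← delta_apply hsq, ← delta_apply hsq, hv.2, hsq]
        have hni : ¬ p ∣ i := fun hd => by
          have := Nat.le_of_dvd (by omega) hd
          omega
        rcases honly _ (fix_of_pow_fix hp f hford i hni _ hfix) with h | h
        · have : v = v₀ := by
            have h1 := congrArg (v₀ * ·) h
            simpa [← mul_assoc, hsq] using h1
          simp [this]
        · have : v = v₀ * t := by
            have h1 := congrArg (v₀ * ·) h
            simpa [← mul_assoc, hsq] using h1
          simp [this]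
      · refine Nat.mul_le_mul_left 2 ?_
        rw [hR]
        exact Finset.card_le_card (Finset.image_subset_image (Finset.subset_univ _))
    calc Nat.card V = (Finset.univ : Finset V).card := by rw [Nat.card_eq_fintype_card]; rfl
      _ ≤ _ := Finset.card_le_card hsub
      _ ≤ F.card + ((Finset.Ico 1 p).biUnion P).card := Finset.card_union_le _ _
      _ ≤ _ := by
        rw [hFcard]
        refine Nat.add_le_add_left ?_ _
        refine Finset.card_biUnion_le.trans ((Finset.sum_le_card_nsmul _ _ _ hPc).trans ?_)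
        rw [Nat.card_Ico, smul_eq_mul]
  · rw [← Subgroup.index_ker, Subgroup.card_mul_index]

theorem four_mul_le_pow : ∀ k : ℕ, 4 * (k + 11) * (k + 10) ≤ 2 ^ (k + 11)
  | 0 => by norm_num
  | k + 1 => by
    have h := four_mul_le_pow k
    have h2 : 2 ^ (k + 1 + 11) = 2 * 2 ^ (k + 11) := by
      rw [show k + 1 + 11 = (k + 11) + 1 by ring, pow_succ]
      ring
    nlinarith [h, h2]

/-- An involution fixing `t` is trivial for `p ≥ 7`. -/
theorem eq_one_large (hsq : ∀ v : V, v * v = 1) {p : ℕ} (hp : p.Prime) (hp7 : 7 ≤ p)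
    (hV : Nat.card V = 2 ^ p) {f y : MulAut V}
    (hford : orderOf f = p) {t : V} (ht : t ≠ 1) (hft : f t = t) (hyt : y t = t) (hy : y * y = 1)
    (honly : ∀ v, f v = v → v = 1 ∨ v = t) (hyorb : ∀ v, ∃ k : ℤ, y v = (f ^ k) v) : y = 1 := by
  by_contra hne
  obtain ⟨h1, h2, h3⟩ := counts hsq hp (by omega) hford ht hft hyt hy honly hyorb
  have hR : 2 ≤ Nat.card (delta hsq y).range := by
    by_contra hlt
    have hpos : 0 < Nat.card (delta hsq y).range := Nat.card_pos
    have hbot : (delta hsq y).range = ⊥ := Subgroup.card_eq_one.1 (by omega)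
    refine hne (MulEquiv.ext fun v => ?_)
    rw [MulAut.one_apply]
    refine (delta_eq_one hsq y v).1 (Subgroup.mem_bot.1 ?_)
    rw [← hbot]
    exact ⟨v, rfl⟩
  set F := Nat.card (delta hsq y).ker
  set R := Nat.card (delta hsq y).range
  rw [hV] at h1 h2 h3
  have hF4 : F ≤ 4 * (p - 1) := by
    have hR0 : 0 < R := by omega
    have hFle : 2 * F ≤ F * R := by nlinarith
    have h4 : F * R ≤ 4 * (p - 1) * R := by
      have h5 : (p - 1) * (2 * R) = 2 * ((p - 1) * R) := by ring
      rw [mul_assoc]
      omega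
    exact Nat.le_of_mul_le_mul_right h4 hR0
  rcases Nat.lt_or_ge p 11 with hlt | hge
  · have hp7' : p = 7 := by
      interval_cases p <;> first | rfl | norm_num at hp
    subst hp7'
    have hd : F ∣ 128 := ⟨R, by norm_num at h3; omega⟩
    obtain ⟨s, _, hs⟩ := (Nat.dvd_prime_pow Nat.prime_two).1 (show F ∣ 2 ^ 7 by norm_num; exact hd)
    norm_num at h1 hF4
    rcases Nat.lt_or_ge s 5 with h | h
    · have : 2 ^ s ≤ 2 ^ 4 := Nat.pow_le_pow_right (by norm_num) (by omega)
      omega
    · have : 2 ^ 5 ≤ 2 ^ s := Nat.pow_le_pow_right (by norm_num) h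
      omega
  · obtain ⟨k, rfl⟩ : ∃ k, p = k + 11 := ⟨p - 11, by omega⟩
    have h := four_mul_le_pow k
    have h6 : (k + 11) * (F - 2) ≤ (k + 11) * (4 * (k + 10) - 2) :=
      Nat.mul_le_mul_left _ (by omega)
    have h7 : (k + 11) * (4 * (k + 10) - 2) + (k + 11) * 2 = 4 * (k + 11) * (k + 10) := by
      rw [← Nat.mul_add, Nat.sub_add_cancel (by omega)]
      ring
    omega

/-- For `p = 3, 5` some `f`-orbit generates `V`. -/
theorem exists_generating_orb (hsq : ∀ v : V, v * v = 1) {p : ℕ} (hp35 : p = 3 ∨ p = 5)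
    (hV : Nat.card V = 2 ^ p) {f : MulAut V} (hford : orderOf f = p) {t : V} (ht : t ≠ 1)
    (hft : f t = t) (honly : ∀ v, f v = v → v = 1 ∨ v = t) :
    ∃ v : V, f v ≠ v ∧ Subgroup.closure (orb p f v : Set V) = ⊤ := by
  classical
  letI := Fintype.ofFinite V
  have hp : p.Prime := by rcases hp35 with rfl | rfl <;> norm_num
  haveI : Fact p.Prime := ⟨hp⟩
  have hker : Nat.card (delta hsq f).ker = 2 := by
    rw [Nat.subtype_card ({1, t} : Finset V) fun v => ?_, Finset.card_pair (Ne.symm ht)]
    rw [MonoidHom.mem_ker, delta_eq_one, Finset.mem_insert, Finset.mem_singleton]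
    exact ⟨fun h => by rcases h with rfl | rfl; exacts [map_one f, hft], honly v⟩
  have hprod : Nat.card (delta hsq f).ker * Nat.card (delta hsq f).range = Nat.card V := by
    rw [← Subgroup.index_ker, Subgroup.card_mul_index]
  set H : Finset V := Finset.univ.image (delta hsq f) with hH
  have hHc : Nat.card (delta hsq f).range = H.card :=
    Nat.subtype_card _ fun v => by simp [hH, MonoidHom.mem_range]
  obtain ⟨v, _, hvnot⟩ : ∃ v, v ∈ (Finset.univ : Finset V) ∧ v ∉ H ∪ {1, t} := by
    refine Finset.exists_mem_notMem_of_card_lt_card ?_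
    refine lt_of_le_of_lt (Finset.card_union_le _ _) ?_
    refine lt_of_le_of_lt (Nat.add_le_add_left Finset.card_le_two _) ?_
    rw [Finset.card_univ, ← Nat.card_eq_fintype_card, hV]
    rw [hker, hHc, hV] at hprod
    rcases hp35 with rfl | rfl <;> norm_num at hprod ⊢ <;> omega
  have hvnot' : (∀ w, v ≠ delta hsq f w) ∧ v ≠ 1 ∧ v ≠ t := by
    simp only [hH, Finset.mem_union, Finset.mem_image, Finset.mem_univ, true_and,
      Finset.mem_insert, Finset.mem_singleton, not_or, not_exists] at hvnot
    exact ⟨fun w h => hvnot.1 w h.symm, hvnot.2.1, hvnot.2.2⟩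
  obtain ⟨hvH, hv1, hvt⟩ := hvnot'
  have hfv : f v ≠ v := fun h => by rcases honly v h with h | h <;> contradiction
  refine ⟨v, hfv, ?_⟩
  set W := Subgroup.closure (orb p f v : Set V) with hW
  have horbW : ∀ w ∈ orb p f v, w ∈ W := fun w hw => Subgroup.subset_closure hw
  have hvW : v ∈ W := horbW v (mem_orb.2 ⟨0, hp.pos, by simp⟩)
  have hWf : ∀ w ∈ W, f w ∈ W := by
    intro w hw
    have hle : W ≤ W.comap f.toMonoidHom := by
      rw [hW, Subgroup.closure_le]
      intro x hx
      obtain ⟨j, _, rfl⟩ := mem_orb.1 hx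
      show f ((f ^ j) v) ∈ W
      rw [← MulAut.mul_apply, ← pow_succ', ← zpow_natCast]
      exact horbW _ (zpow_mem_orb hp hford v _)
    exact hle hw
  have hfp : ∀ n : ℕ, ∀ w ∈ W, (f ^ n) w ∈ W := by
    intro n
    induction n with
    | zero => simp
    | succ n ih => intro w hw; rw [pow_succ', MulAut.mul_apply]; exact hWf _ (ih w hw)
  -- `t` lies in `W`, as otherwise `W` is inside the image of `f - 1`
  have htW : t ∈ W := by
    by_contra htW
    let d : ↥W → ↥W := fun w => ⟨delta hsq f w.1, W.mul_mem w.2 (hWf _ w.2)⟩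
    have hinj : Function.Injective d := by
      intro a b hab
      have h1 : delta hsq f a.1 = delta hsq f b.1 := congrArg Subtype.val hab
      have h2 : f (a.1 * b.1) = a.1 * b.1 := by
        rw [← delta_eq_one hsq, map_mul, h1, hsq]
      rcases honly _ h2 with h | h
      · refine Subtype.ext ?_
        have h3 := congrArg (· * b.1) h
        simpa [mul_assoc, hsq] using h3
      · exact absurd (h ▸ W.mul_mem a.2 b.2) htW
    obtain ⟨w, hw⟩ := Finite.injective_iff_surjective.1 hinj ⟨v, hvW⟩
    exact hvH w.1 (congrArg Subtype.val hw).symm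
  -- hence `|W| ≡ 2` modulo `p`
  obtain ⟨k, hkp, hk⟩ : ∃ k ≤ p, Nat.card W = 2 ^ k :=
    (Nat.dvd_prime_pow Nat.prime_two).1 (hV ▸ Subgroup.card_subgroup_dvd_card W)
  by_contra hne
  have hklt : k < p := by
    rcases lt_or_eq_of_le hkp with h | h
    · exact h
    · exact absurd (Subgroup.eq_top_of_card_eq W (by rw [hk, h, hV])) hne
  have h3W : 2 < Nat.card W := by
    set S : Finset V := {1, t, v}
    have hS : S.card = 3 := Finset.card_eq_three.2 ⟨1, t, v, Ne.symm ht, Ne.symm hv1, Ne.symm hvt,
      rfl⟩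
    rw [Nat.card_eq_fintype_card, ← Fintype.card_coe S] at *
    have : Fintype.card ↥S ≤ Fintype.card ↥W := by
      refine Fintype.card_le_of_injective (fun x => ⟨x.1, ?_⟩) fun a b hab => ?_
      · have hx := x.2
        simp only [S, Finset.mem_insert, Finset.mem_singleton] at hx
        rcases hx with h | h | h <;> rw [h]
        exacts [W.one_mem, htW, hvW]
      · exact Subtype.ext (Subtype.mk.inj hab)
    rw [Fintype.card_coe] at this hS
    omega
  have hmod : Nat.card W ≡ 2 [MOD p] := by
    let σ : Equiv.Perm ↥W := Equiv.ofBijective (fun w => ⟨f w.1, hWf _ w.2⟩)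
      (Finite.injective_iff_bijective.1 fun a b h =>
        Subtype.ext (f.injective (congrArg Subtype.val h)))
    have hpow : ∀ (n : ℕ) (w : ↥W), ((σ ^ n) w : V) = (f ^ n) w.1 := by
      intro n
      induction n with
      | zero => simp
      | succ n ih =>
        intro w
        rw [pow_succ', Equiv.Perm.mul_apply, pow_succ', MulAut.mul_apply, ← ih]
        rfl
    have hσ : σ ^ p ^ 1 = 1 := by
      refine Equiv.ext fun w => Subtype.ext ?_
      rw [pow_one, hpow, ← hford, pow_orderOf_eq_one]
      rfl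
    have h := Equiv.Perm.card_compl_support_modEq hσ
    have hsupp : σ.supportᶜ.card = 2 := by
      rw [show σ.supportᶜ = {(1 : ↥W), ⟨t, htW⟩} from ?_, Finset.card_pair]
      · intro hc
        exact ht (congrArg Subtype.val hc).symm
      · ext w
        simp only [Finset.mem_compl, Equiv.Perm.mem_support, not_not, Finset.mem_insert,
          Finset.mem_singleton]
        constructor
        · intro h
          rcases honly w.1 (congrArg Subtype.val h) with h' | h'
          · left; exact Subtype.ext h'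
          · right; exact Subtype.ext h'
        · rintro (rfl | rfl)
          · exact Subtype.ext (map_one f)
          · exact Subtype.ext hft
    rw [hsupp] at h
    rw [Nat.card_eq_fintype_card]
    exact h.symm
  rw [hk] at h3W hmod
  rcases hp35 with rfl | rfl <;> interval_cases k <;>
    first | (norm_num at h3W; done) | exact absurd hmod (by decide)

/-- An involution fixing `t` is trivial for `p = 3, 5`. -/
theorem eq_one_small (hsq : ∀ v : V, v * v = 1) {p : ℕ} (hp35 : p = 3 ∨ p = 5)
    (hV : Nat.card V = 2 ^ p) {L A : Subgroup (MulAut V)} {t : V} (ht : t ≠ 1) (hAL : A ≤ L)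
    (hcyc : IsCyclic A) (hreg : ∀ v : V, v ≠ 1 → ∃! α : A, (α : MulAut V) t = v)
    {f : MulAut V} (hfA : ∀ α ∈ A, f * α * f⁻¹ ∈ A) (hford : orderOf f = p) (hft : f t = t)
    (honly : ∀ v, f v = v → v = 1 ∨ v = t)
    (horb : ∀ g ∈ L, g t = t → ∀ v, ∃ k : ℤ, g v = (f ^ k) v)
    {y : MulAut V} (hyL : y ∈ L) (hy : y * y = 1) (hyt : y t = t) : y = 1 := by
  classical
  haveI := hcyc
  have hp : p.Prime := by rcases hp35 with rfl | rfl <;> norm_num
  -- the order of `A`
  have hAcard : Nat.card A = 2 ^ p - 1 := by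
    have hAne : ∀ α : A, (α : MulAut V) t ≠ 1 := fun α h =>
      ht ((α : MulAut V).injective (by rw [h, map_one]))
    rw [← hV]
    rw [Nat.card_congr (Equiv.ofBijective
      (fun α : A => (⟨(α : MulAut V) t, hAne α⟩ : {v : V // v ≠ 1})) ⟨?_, ?_⟩)]
    · letI := Fintype.ofFinite V
      simp [Nat.card_eq_fintype_card, Fintype.card_subtype_compl]
    · intro a b hab
      have h := congrArg Subtype.val hab
      obtain ⟨c, _, hc⟩ := hreg _ (hAne a)
      exact (hc a rfl).trans (hc b h.symm).symm
    · rintro ⟨v, hv⟩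
      obtain ⟨c, hc, _⟩ := hreg v hv
      exact ⟨c, Subtype.ext hc⟩
  set m := 2 ^ p - 1 with hm
  have hmp : m.Prime := by rcases hp35 with rfl | rfl <;> norm_num [hm]
  haveI : Fact m.Prime := ⟨hmp⟩
  -- the stabiliser of `t` in `L`
  let Lt : Subgroup (MulAut V) :=
    { carrier := {g | g ∈ L ∧ g t = t}
      one_mem' := ⟨L.one_mem, by simp⟩
      mul_mem' := fun {a b} ha hb => ⟨L.mul_mem ha.1 hb.1, by rw [MulAut.mul_apply, hb.2, ha.2]⟩
      inv_mem' := fun {a} ha => ⟨L.inv_mem ha.1, by
        apply a.injective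
        rw [← MulAut.mul_apply, mul_inv_cancel, MulAut.one_apply, ha.2]⟩ }
  have hLtfac : Nat.card Lt ∣ p.factorial := by
    obtain ⟨v, hfv, hgen⟩ := exists_generating_orb hsq hp35 hV hford ht hft honly
    have hpres : ∀ g ∈ Lt, ∀ w ∈ orb p f v, g w ∈ orb p f v := by
      intro g hg w hw
      obtain ⟨j, _, rfl⟩ := mem_orb.1 hw
      obtain ⟨k, hk⟩ := horb g hg.1 hg.2 ((f ^ j) v)
      rw [hk, ← zpow_natCast, ← MulAut.mul_apply, ← zpow_add]
      exact zpow_mem_orb hp hford v _
    let φ : Lt →* Equiv.Perm ↥(orb p f v) :=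
      { toFun := fun g => Equiv.ofBijective (fun x => ⟨g.1 x.1, hpres _ g.2 _ x.2⟩)
          (Finite.injective_iff_bijective.1 fun a b h =>
            Subtype.ext (g.1.injective (congrArg Subtype.val h)))
        map_one' := by ext x; simp
        map_mul' := fun a b => by ext x; simp }
    have hφ : Function.Injective φ := by
      intro a b hab
      refine Subtype.ext (MulEquiv.ext fun w => ?_)
      have heq : Set.EqOn a.1.toMonoidHom b.1.toMonoidHom (orb p f v : Set V) := fun x hx =>
        congrArg Subtype.val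
          (DFunLike.congr_fun hab (⟨x, Finset.mem_coe.1 hx⟩ : ↥(orb p f v)))
      exact MonoidHom.eqOn_closure heq (hgen ▸ Subgroup.mem_top w)
    have h := Subgroup.card_dvd_of_injective φ hφ
    rwa [Nat.card_eq_fintype_card (α := Equiv.Perm _), Fintype.card_perm, Fintype.card_coe,
      card_orb hp hford hfv] at h
  have hLcard : Nat.card L = m * Nat.card Lt := by
    rw [← hAcard, ← Nat.card_prod]
    symm
    refine Nat.card_congr (Equiv.ofBijective
      (fun x : A × Lt => (⟨x.1.1 * x.2.1, L.mul_mem (hAL x.1.2) x.2.2.1⟩ : L)) ⟨?_, ?_⟩)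
    · rintro ⟨a, g⟩ ⟨b, h⟩ hab
      have h1 : a.1 * g.1 = b.1 * h.1 := congrArg Subtype.val hab
      have h2 : a.1 t = b.1 t := by
        have := DFunLike.congr_fun h1 t
        rwa [MulAut.mul_apply, MulAut.mul_apply, g.2.2, h.2.2] at this
      have hat : (a.1 : MulAut V) t ≠ 1 := fun h =>
        ht (a.1.injective (by rw [h, map_one]))
      obtain ⟨c, _, hc⟩ := hreg _ hat
      have hab' : a = b := (hc a rfl).trans (hc b h2.symm).symm
      subst hab'
      exact Prod.ext rfl (Subtype.ext (mul_left_cancel h1))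
    · rintro ⟨g, hg⟩
      have hgt : g t ≠ 1 := fun h => ht (g.injective (by rw [h, map_one]))
      obtain ⟨a, ha, _⟩ := hreg _ hgt
      refine ⟨⟨a, ⟨a.1⁻¹ * g, L.mul_mem (L.inv_mem (hAL a.2)) hg, ?_⟩⟩, Subtype.ext ?_⟩
      · apply a.1.injective
        rw [← MulAut.mul_apply, mul_inv_cancel_left, ha]
      · exact mul_inv_cancel_left _ _
  have hmfac : ¬ m ∣ p.factorial := by
    rw [hmp.dvd_factorial]
    rcases hp35 with rfl | rfl <;> norm_num [hm]
  -- `A` is the only Sylow `m`-subgroup of `L`
  have hA' : Nat.card (A.subgroupOf L) = m := by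
    rw [Nat.card_congr (Subgroup.subgroupOfEquivOfLe hAL).toEquiv, hAcard]
  obtain ⟨P, hP⟩ := IsPGroup.exists_le_sylow
    (IsPGroup.of_card (p := m) (n := 1) (G := ↥(A.subgroupOf L)) (by rw [hA', pow_one]))
  obtain ⟨k, hk⟩ := IsPGroup.iff_card.1 P.isPGroup'
  have hk1 : k ≤ 1 := by
    by_contra h
    have hdvd : m ^ 2 ∣ m * Nat.card Lt := by
      rw [← hLcard]
      exact (pow_dvd_pow m (by omega)).trans (hk ▸ Subgroup.card_subgroup_dvd_card _)
    rw [pow_two] at hdvd
    exact hmfac ((Nat.dvd_of_mul_dvd_mul_left hmp.pos hdvd).trans hLtfac)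
  have hPA : (P : Subgroup L) = A.subgroupOf L := by
    refine (Subgroup.eq_of_le_of_card_ge hP ?_).symm
    rw [hA', hk]
    calc m ^ k ≤ m ^ 1 := Nat.pow_le_pow_right hmp.pos hk1
      _ = m := pow_one m
  have hone : Nat.card (Sylow m L) = 1 := by
    have hmod := card_sylow_modEq_one m L
    have hdvd : Nat.card (Sylow m L) ∣ p.factorial := by
      refine (Sylow.card_dvd_index P).trans ?_
      have h := Subgroup.card_mul_index (P : Subgroup L)
      rw [hPA, hA', hLcard] at h
      rw [hPA, Nat.eq_of_mul_eq_mul_left hmp.pos h]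
      exact hLtfac
    have hle : Nat.card (Sylow m L) ≤ p.factorial := Nat.le_of_dvd (Nat.factorial_pos p) hdvd
    generalize Nat.card (Sylow m L) = n at hmod hdvd hle
    rcases hp35 with rfl | rfl
    · norm_num [hm, Nat.factorial, Nat.ModEq] at hmod hdvd hle
      omega
    · norm_num [hm, Nat.factorial, Nat.ModEq] at hmod hdvd hle
      have hcases : n = 1 ∨ n = 32 ∨ n = 63 ∨ n = 94 := by omega
      rcases hcases with rfl | rfl | rfl | rfl
      · rfl
      all_goals norm_num at hdvd
  haveI : Subsingleton (Sylow m L) := (Nat.card_eq_one_iff_unique.1 hone).1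
  have hconj : ∀ α ∈ A, y * α * y⁻¹ ∈ A := by
    intro α hα
    set x : L := ⟨y * α * y⁻¹, L.mul_mem (L.mul_mem hyL (hAL hα)) (L.inv_mem hyL)⟩ with hx
    have hxm : x ^ m = 1 := by
      refine Subtype.ext ?_
      have hαm : α ^ m = 1 := by
        have h := pow_card_eq_one' (x := (⟨α, hα⟩ : A))
        rw [hAcard] at h
        exact congrArg Subtype.val h
      rw [hx]
      simp [conj_pow, hαm]
    have hpg : IsPGroup m (Subgroup.zpowers x) := by
      obtain ⟨j, _, hj⟩ := (Nat.dvd_prime_pow hmp).1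
        (show orderOf x ∣ m ^ 1 by rw [pow_one]; exact orderOf_dvd_of_pow_eq_one hxm)
      exact IsPGroup.of_card (n := j) (by rw [Nat.card_zpowers, hj])
    obtain ⟨Q, hQ⟩ := hpg.exists_le_sylow
    have h : x ∈ (P : Subgroup L) := Subsingleton.elim Q P ▸ hQ (Subgroup.mem_zpowers x)
    rw [hPA] at h
    exact Subgroup.mem_subgroupOf.1 h
  -- conjugation by `y` and by `f` on the cyclic group `A` commute
  let cy : A →* A :=
    { toFun := fun a => ⟨y * a.1 * y⁻¹, hconj _ a.2⟩
      map_one' := Subtype.ext (by simp)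
      map_mul' := fun a b => Subtype.ext (by simp [mul_assoc]) }
  let cf : A →* A :=
    { toFun := fun a => ⟨f * a.1 * f⁻¹, hfA _ a.2⟩
      map_one' := Subtype.ext (by simp)
      map_mul' := fun a b => Subtype.ext (by simp [mul_assoc]) }
  obtain ⟨s, hs⟩ := cy.map_cyclic
  obtain ⟨r, hr⟩ := cf.map_cyclic
  have hcomm : ∀ v, y (f v) = f (y v) := by
    intro v
    by_cases hv : v = 1
    · simp [hv]
    obtain ⟨a, rfl, _⟩ := hreg v hv
    have hyA : ∀ b : A, y ((b : MulAut V) t) = (cy b : MulAut V) t := by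
      intro b
      show y ((b : MulAut V) t) = (y * b.1 * y⁻¹) t
      have hyi : y⁻¹ t = t := by
        apply y.injective
        rw [← MulAut.mul_apply, mul_inv_cancel, MulAut.one_apply, hyt]
      rw [MulAut.mul_apply, MulAut.mul_apply, hyi]
    have hfA' : ∀ b : A, f ((b : MulAut V) t) = (cf b : MulAut V) t := by
      intro b
      show f ((b : MulAut V) t) = (f * b.1 * f⁻¹) t
      have hfi : f⁻¹ t = t := by
        apply f.injective
        rw [← MulAut.mul_apply, mul_inv_cancel, MulAut.one_apply, hft]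
      rw [MulAut.mul_apply, MulAut.mul_apply, hfi]
    rw [hfA', hyA, hyA a, hfA', hs, hr, hs, hr, ← zpow_mul, ← zpow_mul, mul_comm]
  refine MulEquiv.ext fun v => ?_
  rw [MulAut.one_apply]
  obtain ⟨k, hk⟩ := horb y hyL hyt v
  obtain ⟨n, hn, he⟩ := exists_pow_eq hp f hford k
  rw [← he] at hk
  rcases Nat.eq_zero_or_pos n with rfl | h0
  · simpa using hk
  have hc : ∀ j w, y ((f ^ j) w) = (f ^ j) (y w) := by
    intro j
    induction j with
    | zero => simp
    | succ j ih => intro w; rw [pow_succ', MulAut.mul_apply, MulAut.mul_apply, hcomm, ih]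
  have h2 : (f ^ (2 * n)) v = v := by
    have h1 := hc n v
    have hyy : y (y v) = v := by rw [← MulAut.mul_apply, hy, MulAut.one_apply]
    rw [← hk, hyy] at h1
    rw [two_mul, pow_add, MulAut.mul_apply, ← hk, ← h1]
  have hfix : f v = v := by
    refine fix_of_pow_fix hp f hford (2 * n) ?_ v h2
    intro hd
    rcases hp.dvd_mul.1 hd with h | h
    · have := Nat.le_of_dvd (by norm_num) h
      rcases hp35 with rfl | rfl <;> omega
    · have := Nat.le_of_dvd h0 h
      omega
  rw [hk, pow_apply_of_fix f v hfix n]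

end Endgame

open Endgame in
theorem endgame {V : Type u} [Group V] [Finite V] {p : ℕ} (hp : p.Prime) (hp2 : p ≠ 2)
    (hV : Nat.card V = 2 ^ p) (hsq : ∀ v : V, v * v = 1) (L A : Subgroup (MulAut V)) (t : V)
    (ht : t ≠ 1) (hAL : A ≤ L) (hcyc : IsCyclic A)
    (hreg : ∀ v : V, v ≠ 1 → ∃! α : A, (α : MulAut V) t = v)
    (f : MulAut V) (hfL : f ∈ L) (hfA : ∀ α ∈ A, f * α * f⁻¹ ∈ A) (hford : orderOf f = p)
    (hft : f t = t) (honly : ∀ v, f v = v → v = 1 ∨ v = t)
    (horb : ∀ g ∈ L, g t = t → ∀ v, ∃ k : ℤ, g v = (f ^ k) v) :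
    ∀ y ∈ L, y * y = 1 → y = 1 := by
  classical
  clear hfL
  intro y hyL hy
  -- a point fixed by `y`
  have hinv : ∀ w, y (y w) = w := by
    intro w
    rw [← MulAut.mul_apply, hy, MulAut.one_apply]
  letI := Fintype.ofFinite V
  have hne : ∀ w : V, w ≠ 1 → y w ≠ 1 := fun w hw h => hw (y.injective (by rw [h, map_one]))
  let σ : Equiv.Perm {w : V // w ≠ 1} :=
    Function.Involutive.toPerm (fun x => ⟨y x.1, hne x.1 x.2⟩) (fun x => Subtype.ext (hinv x.1))
  have hσ : σ ^ 2 ^ 1 = 1 := by
    refine Equiv.ext fun x => ?_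
    rw [pow_one, pow_two]
    exact Subtype.ext (hinv x.1)
  haveI : Fact (Nat.Prime 2) := ⟨Nat.prime_two⟩
  have hodd : ¬ 2 ∣ Fintype.card {w : V // w ≠ 1} := by
    rw [Fintype.card_subtype_compl, Fintype.card_subtype_eq, ← Nat.card_eq_fintype_card, hV]
    intro hd
    have h2 : 2 ∣ 2 ^ p := dvd_pow_self 2 hp.ne_zero
    have h1 : 1 ≤ 2 ^ p := Nat.one_le_two_pow
    omega
  obtain ⟨⟨v, hv⟩, hvfix⟩ := Equiv.Perm.exists_fixed_point_of_prime hodd hσ
  have hyv : y v = v := congrArg Subtype.val hvfix
  obtain ⟨a, hat, _⟩ := hreg v hv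
  set z := (a : MulAut V)⁻¹ * y * a with hz
  have hzL : z ∈ L := L.mul_mem (L.mul_mem (L.inv_mem (hAL a.2)) hyL) (hAL a.2)
  have hzz : z * z = 1 := by
    rw [hz]
    calc (a : MulAut V)⁻¹ * y * a * ((a : MulAut V)⁻¹ * y * a)
        = (a : MulAut V)⁻¹ * (y * y) * a := by group
      _ = 1 := by rw [hy]; group
  have hzt : z t = t := by
    apply (a : MulAut V).injective
    rw [← MulAut.mul_apply, hz, ← mul_assoc, ← mul_assoc, mul_inv_cancel, one_mul,
      MulAut.mul_apply, hat, hyv]
  have hz1 : z = 1 := by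
    by_cases h7 : 7 ≤ p
    · exact eq_one_large hsq hp h7 hV hford ht hft hzt hzz honly (horb z hzL hzt)
    · have hp35 : p = 3 ∨ p = 5 := by
        have h3 := hp.two_le
        interval_cases p <;> first | omega | norm_num at hp
      exact eq_one_small hsq hp35 hV ht hAL hcyc hreg hfA hford hft honly horb hzL hzz hzt
  calc y = (a : MulAut V) * z * (a : MulAut V)⁻¹ := by rw [hz]; group
    _ = 1 := by rw [hz1]; group

end Cfsg.Agent.H70.SE
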