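import Cfsg.Agent.H70.SE.SameOrbits
import Cfsg.Agent.H70.SE.Endgame

/-!
# The field automorphism of prime order leaves no room for 2-elements

Step 4 of notes/helper70_bender_H1.md: in a `FieldLine` every 2-element fixing the point commutes
with all involutions at the point.
-/

namespace Cfsg.Agent.H70.SE

open MulAction

universe u v

variable {G : Type u} [Group G] {Ω : Type v} [MulAction G Ω]

namespace FieldLine

variable {p : ℕ} {a b : Ω} {t f u : G} {A : Subgroup G}

/-- The involutions at the point, with the identity. -/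
def invGroup (h : FieldLine p a b t f u A) : Subgroup G where
  carrier := {x | x = 1 ∨ orderOf x = 2 ∧ x • a = a}
  one_mem' := Or.inl rfl
  mul_mem' := by
    rintro x y (rfl | ⟨hx, hxa⟩) (rfl | ⟨hy, hya⟩)
    · exact Or.inl (one_mul 1)
    · exact Or.inr ⟨by rwa [one_mul], by rwa [one_mul]⟩
    · exact Or.inr ⟨by rwa [mul_one], by rwa [mul_one]⟩
    · by_cases hxy : x * y = 1
      · exact Or.inl hxy
      · refine Or.inr ⟨orderOf_eq_prime ?_ hxy, by rw [mul_smul, hya, hxa]⟩
        rw [(show Commute x y from h.com x y hx hy hxa hya).mul_pow]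
        conv_lhs => rw [← hx, pow_orderOf_eq_one, hx, ← hy, pow_orderOf_eq_one, one_mul]
  inv_mem' := by
    rintro x (rfl | ⟨hx, hxa⟩)
    · exact Or.inl inv_one
    · exact Or.inr ⟨by rw [orderOf_inv, hx], inv_smul_eq_iff.2 hxa.symm⟩

theorem mem_invGroup (h : FieldLine p a b t f u A) {x : G} :
    x ∈ h.invGroup ↔ x = 1 ∨ orderOf x = 2 ∧ x • a = a := Iff.rfl

/-- Conjugation of the involution group by an element fixing the point. -/
def conjEquiv (h : FieldLine p a b t f u A) (g : stabilizer G a) : MulAut h.invGroup where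
  toFun v := ⟨(g : G) * v * (g : G)⁻¹, by
    rcases h.mem_invGroup.1 v.2 with e | ⟨e1, e2⟩
    · exact Or.inl (by simp [e])
    · exact Or.inr ⟨conj_pow_two_orderOf e1, by
        rw [mul_smul, mul_smul, inv_smul_eq_iff.2 g.2.symm, e2, g.2]⟩⟩
  invFun v := ⟨(g : G)⁻¹ * v * g, by
    rcases h.mem_invGroup.1 v.2 with e | ⟨e1, e2⟩
    · exact Or.inl (by simp [e])
    · refine Or.inr ⟨?_, by rw [mul_smul, mul_smul, show (g : G) • a = a from g.2, e2,
        inv_smul_eq_iff.2 g.2.symm]⟩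
      simpa using conj_pow_two_orderOf (g := (g : G)⁻¹) e1⟩
  left_inv v := Subtype.ext (show (g : G)⁻¹ * (g * v * (g : G)⁻¹) * g = v by group)
  right_inv v := Subtype.ext (show (g : G) * ((g : G)⁻¹ * v * g) * (g : G)⁻¹ = v by group)
  map_mul' v w := Subtype.ext
    (show (g : G) * (v * w) * (g : G)⁻¹ = g * v * (g : G)⁻¹ * (g * w * (g : G)⁻¹) by group)

/-- The action of the point stabiliser on the involution group. -/
def conjHom (h : FieldLine p a b t f u A) : stabilizer G a →* MulAut h.invGroup where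
  toFun := h.conjEquiv
  map_one' := MulEquiv.ext fun v => Subtype.ext (show (1 : G) * v * (1 : G)⁻¹ = v by simp)
  map_mul' g k := MulEquiv.ext fun v => Subtype.ext
    (show ((g : G) * k) * v * ((g : G) * k)⁻¹ = g * (k * v * (k : G)⁻¹) * (g : G)⁻¹ by group)

theorem conjHom_apply (h : FieldLine p a b t f u A) (g : stabilizer G a) (v : h.invGroup) :
    (h.conjHom g v : G) = g * v * (g : G)⁻¹ := rfl

variable [Finite G] [Finite Ω] (h : FieldLine p a b t f u A)

include h

/-- An element fixing the point whose square centralises the involutions there centralises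
them. -/
theorem commute_of_sq {x : G} (hxa : x • a = a)
    (hx : ∀ i : G, orderOf i = 2 → i • a = a → x * x * i = i * (x * x)) {i : G}
    (hi : orderOf i = 2) (hia : i • a = a) : x * i = i * x := by
  classical
  letI := Fintype.ofFinite G
  have hAH : A ≤ stabilizer G a := fun α hα => (h.fixA α hα).1
  let Ψ := h.conjHom
  let A' := (Ψ.comp (Subgroup.inclusion hAH)).range
  let t' : h.invGroup := ⟨t, Or.inr ⟨h.t_inv, h.t_fix⟩⟩
  have hne1 : ∀ v : h.invGroup, v ≠ 1 → orderOf (v : G) = 2 ∧ (v : G) • a = a := fun v hv =>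
    (h.mem_invGroup.1 v.2).resolve_left fun e => hv (Subtype.ext e)
  have hsq : ∀ v : h.invGroup, v * v = 1 := by
    intro v
    refine Subtype.ext ?_
    rcases h.mem_invGroup.1 v.2 with e | ⟨e, -⟩
    · simp [e]
    · rw [Subgroup.coe_mul, ← sq, ← e, pow_orderOf_eq_one]; rfl
  have hV : Nat.card h.invGroup = 2 ^ p := by
    have h8 := h.eight_le
    have h1 : (h.invGroup : Set G) = insert 1 {x : G | orderOf x = 2 ∧ x • a = a} := rfl
    have h2 : Nat.card h.invGroup = (h.invGroup : Set G).ncard :=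
      Nat.card_coe_set_eq (h.invGroup : Set G)
    have h3 : ({x : G | orderOf x = 2 ∧ x • a = a} : Set G).ncard = 2 ^ p - 1 := by
      rw [← h.card_inv, ← Nat.card_coe_set_eq]; rfl
    rw [h2, h1, Set.ncard_insert_of_notMem (by simp), h3]
    omega
  have horb : ∀ g ∈ Ψ.range, g t' = t' → ∀ v, ∃ k : ℤ, g v = (Ψ ⟨f, h.f_fix.1⟩ ^ k) v := by
    rintro _ ⟨c, rfl⟩ hc v
    by_cases hv : v = 1
    · exact ⟨0, by subst hv; simp⟩
    have hc' : (c : G) * t = t * c := mul_inv_eq_iff_eq_mul.1 (congrArg Subtype.val hc)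
    obtain ⟨k, hk⟩ := h.same_orbits c hc' v (hne1 v hv).1 (hne1 v hv).2
    refine ⟨k, Subtype.ext ?_⟩
    rw [← map_zpow, conjHom_apply, conjHom_apply, SubgroupClass.coe_zpow]
    exact hk
  have hreg : ∀ v : h.invGroup, v ≠ 1 → ∃! α : A', (α : MulAut h.invGroup) t' = v := by
    intro v hv
    obtain ⟨α, hα, e⟩ := h.exists_conj (hne1 v hv).1 (hne1 v hv).2
    refine ⟨⟨_, ⟨α, hα⟩, rfl⟩, Subtype.ext e, ?_⟩
    rintro ⟨_, ⟨β, hβ⟩, rfl⟩ eβ
    have eβ' : β * t * β⁻¹ = (v : G) := congrArg Subtype.val eβ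
    have h1 := h.eq_one_of_commute (A.mul_mem (A.inv_mem hα) hβ) h.t_inv (by
      calc t * (α⁻¹ * β) = α⁻¹ * (α * t * α⁻¹) * β := by group
        _ = α⁻¹ * (β * t * β⁻¹) * β := by rw [e, eβ']
        _ = α⁻¹ * β * t := by group)
    rw [inv_mul_eq_one] at h1
    subst h1
    rfl
  have hfA : ∀ α' ∈ A', Ψ ⟨f, h.f_fix.1⟩ * α' * (Ψ ⟨f, h.f_fix.1⟩)⁻¹ ∈ A' := by
    rintro _ ⟨⟨α, hα⟩, rfl⟩
    refine ⟨⟨f * α * f⁻¹, h.normA f h.f_fix.1 h.f_fix.2 α hα⟩, ?_⟩
    simp only [MonoidHom.comp_apply]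
    rw [← map_inv, ← map_mul, ← map_mul]
    rfl
  have honly : ∀ v, Ψ ⟨f, h.f_fix.1⟩ v = v → v = 1 ∨ v = t' := by
    intro v hv
    by_cases hv1 : v = 1
    · exact Or.inl hv1
    · exact Or.inr (Subtype.ext (h.f_only v (hne1 v hv1).1 (hne1 v hv1).2
        (mul_inv_eq_iff_eq_mul.1 (congrArg Subtype.val hv)).symm))
  have hford : orderOf (Ψ ⟨f, h.f_fix.1⟩) = p := by
    have hd : orderOf (Ψ ⟨f, h.f_fix.1⟩) ∣ p := by
      refine (orderOf_map_dvd Ψ _).trans (dvd_of_eq ?_)
      exact (Subgroup.orderOf_mk f h.f_fix.1).trans h.orderOf_f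
    refine ((Nat.dvd_prime h.prime).1 hd).resolve_left fun e => ?_
    rw [orderOf_eq_one_iff] at e
    haveI : Nontrivial h.invGroup := Finite.one_lt_card_iff_nontrivial.1
      (by rw [hV]; have := h.eight_le; omega)
    have hall : ∀ v, v = 1 ∨ v = t' := fun v => honly v (by rw [e]; rfl)
    have : Nat.card h.invGroup ≤ 2 := by
      haveI := Fintype.ofFinite h.invGroup
      rw [Nat.card_eq_fintype_card, ← Finset.card_univ]
      refine (Finset.card_le_card fun v _ => ?_).trans (Finset.card_le_two (a := 1) (b := t'))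
      simpa using hall v
    rw [hV] at this
    have := h.eight_le
    omega
  have hy : Ψ ⟨x, hxa⟩ * Ψ ⟨x, hxa⟩ = 1 := by
    rw [← map_mul]
    refine MulEquiv.ext fun v => Subtype.ext ?_
    rw [conjHom_apply]
    show x * x * v * (x * x)⁻¹ = v
    rcases h.mem_invGroup.1 v.2 with e | ⟨e1, e2⟩
    · simp [e]
    · rw [mul_inv_eq_iff_eq_mul]; exact hx v e1 e2
  haveI := h.cyclicA
  have hcyc : IsCyclic A' :=
    isCyclic_of_surjective (Ψ.comp (Subgroup.inclusion hAH)).rangeRestrict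
      (MonoidHom.rangeRestrict_surjective _)
  have key := endgame h.prime h.odd hV hsq Ψ.range A' t'
    (fun e => by
      have h2 := h.t_inv
      rw [show t = 1 from congrArg Subtype.val e, orderOf_one] at h2
      omega)
    (by rintro _ ⟨α, rfl⟩; exact ⟨_, rfl⟩) hcyc hreg (Ψ ⟨f, h.f_fix.1⟩) ⟨_, rfl⟩ hfA hford
    (Subtype.ext (mul_inv_eq_iff_eq_mul.2 h.f_t)) honly horb _ ⟨⟨x, hxa⟩, rfl⟩ hy
  have := congrArg Subtype.val
    (DFunLike.congr_fun key (⟨i, Or.inr ⟨hi, hia⟩⟩ : h.invGroup))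
  exact mul_inv_eq_iff_eq_mul.1 this

/-- Every 2-element fixing the point commutes with the involutions at the point. -/
theorem commute_of_twoPow {x : G} {e : ℕ} (hxa : x • a = a) (hx : x ^ (2 ^ e) = 1) {i : G}
    (hi : orderOf i = 2) (hia : i • a = a) : x * i = i * x := by
  induction e generalizing x i with
  | zero => rw [pow_zero, pow_one] at hx; simp [hx]
  | succ e ih =>
    refine h.commute_of_sq hxa (fun j hj hja => ih (x := x * x) ?_ ?_ hj hja) hi hia
    · rw [mul_smul, hxa, hxa]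
    · rw [← sq, ← pow_mul, ← pow_succ']; exact hx

end FieldLine

end Cfsg.Agent.H70.SE
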