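import Mathlib.FieldTheory.Fixed
import Mathlib.FieldTheory.Finiteness
import Mathlib.LinearAlgebra.FiniteDimensional.Defs
import Mathlib.RingTheory.IntegralDomain

/-!
# A field automorphism with two fixed points

`A` is a commutative group of automorphisms of the group `V` of exponent two transitive on the
non-trivial elements, and `f` is an automorphism of prime order `l` normalising `A` whose fixed
points are `1` and `t`.  Then `V` is the field of `2 ^ l` elements and `f` a field automorphism.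
-/

namespace Cfsg.Agent.H70.SE

universe u

theorem card_eq_two_pow {V : Type u} [Group V] [Finite V] (hsq : ∀ v : V, v * v = 1)
    (A : Subgroup (MulAut V)) (hA : ∀ α ∈ A, ∀ β ∈ A, α * β = β * α) (t : V) (ht : t ≠ 1)
    (htr : ∀ v : V, v ≠ 1 → ∃ α ∈ A, α t = v) {l : ℕ} (hl : l.Prime) (f : MulAut V)
    (hf : ∀ α ∈ A, f * α * f⁻¹ ∈ A) (hford : orderOf f = l) (hft : f t = t)
    (honly : ∀ v, f v = v → v = 1 ∨ v = t) : Nat.card V = 2 ^ l := by
  classical
  have hc : ∀ x y : V, x * y = y * x := fun x y => by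
    have h1 := hsq (x * y)
    have hx : x⁻¹ = x := inv_eq_of_mul_eq_one_right (hsq x)
    have hy : y⁻¹ = y := inv_eq_of_mul_eq_one_right (hsq y)
    rw [mul_eq_one_iff_eq_inv, mul_inv_rev, hx, hy] at h1
    exact h1
  letI : CommGroup V := { (inferInstance : Group V) with mul_comm := hc }
  let W := Additive V
  let toEnd : MulAut V →* AddMonoid.End W :=
    { toFun := fun α => MonoidHom.toAdditive α.toMonoidHom
      map_one' := rfl
      map_mul' := fun _ _ => rfl }
  haveI hinjW : Finite (AddMonoid.End W) := Finite.of_injective (fun φ => (φ : W → W))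
    DFunLike.coe_injective
  let K : Subring (AddMonoid.End W) := Subring.centralizer ((fun α => toEnd α) '' (A : Set (MulAut V)))
  have hmemK : ∀ φ : AddMonoid.End W, φ ∈ K ↔ ∀ α ∈ A, ∀ v : W, toEnd α (φ v) = φ (toEnd α v) := by
    intro φ
    simp only [K, Subring.mem_centralizer_iff, Set.forall_mem_image, SetLike.mem_coe]
    exact forall₂_congr fun α _ => ⟨fun h v => DFunLike.congr_fun h v, fun h => DFunLike.ext _ _ h⟩
  let t' : W := Additive.ofMul t
  have ht' : t' ≠ 0 := ht
  have hAK : ∀ α ∈ A, toEnd α ∈ K := fun α hα => (hmemK _).2 fun β hβ v =>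
    congrArg Additive.ofMul (DFunLike.congr_fun (hA β hβ α hα) v.toMul)
  -- evaluation at `t`
  have hev : ∀ φ ψ : AddMonoid.End W, φ ∈ K → ψ ∈ K → φ t' = ψ t' → φ = ψ := by
    intro φ ψ hφ hψ h
    refine DFunLike.ext _ _ fun v => ?_
    by_cases hv : v = 0
    · rw [hv, map_zero, map_zero]
    obtain ⟨α, hα, e⟩ := htr v.toMul hv
    have e' : toEnd α t' = v := congrArg Additive.ofMul e
    rw [← e', ← (hmemK φ).1 hφ α hα, ← (hmemK ψ).1 hψ α hα, h]
  have hex : ∀ v : W, v ≠ 0 → ∃ α ∈ A, toEnd α t' = v := fun v hv => by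
    obtain ⟨α, hα, e⟩ := htr v.toMul hv
    exact ⟨α, hα, congrArg Additive.ofMul e⟩
  have hK : ∀ φ : K, φ ≠ 0 → ∃ α ∈ A, (φ : AddMonoid.End W) = toEnd α := by
    intro φ hφ
    have hne : (φ : AddMonoid.End W) t' ≠ 0 := fun h =>
      hφ (Subtype.ext (hev _ _ φ.2 K.zero_mem h))
    obtain ⟨α, hα, e⟩ := hex _ hne
    exact ⟨α, hα, hev _ _ φ.2 (hAK α hα) e.symm⟩
  have hfield : IsField K := by
    refine ⟨⟨0, 1, fun h => ht' ?_⟩, fun φ ψ => ?_, fun {φ} hφ => ?_⟩
    · exact (DFunLike.congr_fun (congrArg Subtype.val h) t').symm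
    · by_cases h1 : φ = 0
      · rw [h1, zero_mul, mul_zero]
      by_cases h2 : ψ = 0
      · rw [h2, zero_mul, mul_zero]
      obtain ⟨α, hα, e1⟩ := hK φ h1
      obtain ⟨β, hβ, e2⟩ := hK ψ h2
      refine Subtype.ext ?_
      show (φ : AddMonoid.End W) * ψ = ψ * φ
      rw [e1, e2, ← map_mul, ← map_mul, hA α hα β hβ]
    · obtain ⟨α, hα, e⟩ := hK φ hφ
      refine ⟨⟨toEnd α⁻¹, hAK _ (A.inv_mem hα)⟩, Subtype.ext ?_⟩
      show (φ : AddMonoid.End W) * toEnd α⁻¹ = 1
      rw [e, ← map_mul, mul_inv_cancel, map_one]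
  letI : Field K := hfield.toField
  -- conjugation by `f`
  have hfK : ∀ g : MulAut V, (∀ α ∈ A, g⁻¹ * α * g ∈ A) → ∀ φ ∈ K,
      toEnd g * φ * toEnd g⁻¹ ∈ K := by
    intro g hg φ hφ
    refine (hmemK _).2 fun α hα v => ?_
    have h1 := (hmemK φ).1 hφ _ (hg α hα) (toEnd g⁻¹ v)
    show toEnd α (toEnd g (φ (toEnd g⁻¹ v))) = toEnd g (φ (toEnd g⁻¹ (toEnd α v)))
    have e1 : ∀ w, toEnd (g⁻¹ * α * g) w = toEnd g⁻¹ (toEnd α (toEnd g w)) := fun _ => rfl
    have e2 : ∀ w, toEnd g (toEnd g⁻¹ w) = w := fun w => by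
      rw [show toEnd g (toEnd g⁻¹ w) = (toEnd g * toEnd g⁻¹) w from rfl, ← map_mul,
        mul_inv_cancel, map_one]
      rfl
    rw [e1, e1, e2] at h1
    have h2 := congrArg (toEnd g) h1
    rwa [e2] at h2
  have hfinv : ∀ α ∈ A, f⁻¹ * α * f ∈ A := by
    intro α hα
    have h : ∀ n : ℕ, ∀ β ∈ A, f ^ n * β * (f ^ n)⁻¹ ∈ A := by
      intro n
      induction n with
      | zero => simp
      | succ n ih =>
        intro β hβ
        rw [pow_succ', show f * f ^ n * β * (f * f ^ n)⁻¹ = f * (f ^ n * β * (f ^ n)⁻¹) * f⁻¹ by group]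
        exact hf _ (ih β hβ)
    have hl1 : f ^ (l - 1) = f⁻¹ := by
      refine eq_inv_of_mul_eq_one_left ?_
      rw [← pow_succ, Nat.sub_add_cancel hl.one_le, ← hford, pow_orderOf_eq_one]
    simpa [hl1] using h (l - 1) α hα
  have hf' : ∀ α ∈ A, f⁻¹⁻¹ * α * f⁻¹ ∈ A := fun α hα => by rw [inv_inv]; exact hf α hα
  let σ : RingAut K :=
    { toFun := fun φ => ⟨toEnd f * φ * toEnd f⁻¹, hfK f hfinv φ φ.2⟩
      invFun := fun φ => ⟨toEnd f⁻¹ * φ * toEnd f, by
        have := hfK f⁻¹ hf' φ φ.2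
        rwa [inv_inv] at this⟩
      left_inv := fun φ => Subtype.ext (by
        show toEnd f⁻¹ * (toEnd f * φ * toEnd f⁻¹) * toEnd f = (φ : AddMonoid.End W)
        simp only [mul_assoc, ← map_mul, inv_mul_cancel, map_one, mul_one]
        rw [← mul_assoc, ← map_mul, inv_mul_cancel, map_one, one_mul])
      right_inv := fun φ => Subtype.ext (by
        show toEnd f * (toEnd f⁻¹ * φ * toEnd f) * toEnd f⁻¹ = (φ : AddMonoid.End W)
        simp only [mul_assoc, ← map_mul, mul_inv_cancel, map_one, mul_one]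
        rw [← mul_assoc, ← map_mul, mul_inv_cancel, map_one, one_mul])
      map_mul' := fun φ ψ => Subtype.ext (by
        show toEnd f * ((φ : AddMonoid.End W) * ψ) * toEnd f⁻¹ =
          toEnd f * φ * toEnd f⁻¹ * (toEnd f * ψ * toEnd f⁻¹)
        simp only [mul_assoc]
        rw [← mul_assoc (toEnd f⁻¹) (toEnd f), ← map_mul, inv_mul_cancel, map_one, one_mul])
      map_add' := fun φ ψ => Subtype.ext (by
        show toEnd f * ((φ : AddMonoid.End W) + ψ) * toEnd f⁻¹ =
          toEnd f * φ * toEnd f⁻¹ + toEnd f * ψ * toEnd f⁻¹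
        rw [mul_add, add_mul]) }
  have hft' : toEnd f t' = t' := congrArg Additive.ofMul hft
  have hσt : ∀ (φ : K), (σ φ : AddMonoid.End W) t' = toEnd f ((φ : AddMonoid.End W) t') := by
    intro φ
    show toEnd f ((φ : AddMonoid.End W) (toEnd f⁻¹ t')) = _
    rw [show toEnd f⁻¹ t' = t' from congrArg Additive.ofMul
      (by rw [← hft]; exact (f.symm_apply_apply t).trans hft.symm : f⁻¹ t = t)]
  have hσn : ∀ (n : ℕ) (φ : K),
      ((σ ^ n) φ : AddMonoid.End W) t' = toEnd (f ^ n) ((φ : AddMonoid.End W) t') := by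
    intro n
    induction n with
    | zero => intro φ; rfl
    | succ n ih =>
      intro φ
      rw [pow_succ', pow_succ', RingAut.mul_apply, hσt, ih]
      rfl
  have hsurj : ∀ v : W, ∃ φ : K, (φ : AddMonoid.End W) t' = v := fun v => by
    by_cases hv : v = 0
    · exact ⟨0, hv.symm⟩
    · obtain ⟨α, hα, e⟩ := hex v hv
      exact ⟨⟨toEnd α, hAK α hα⟩, e⟩
  have hord : orderOf σ = l := by
    haveI := Fact.mk hl
    refine orderOf_eq_prime (RingEquiv.ext fun φ => Subtype.ext (hev _ _ (Subtype.prop _) φ.2 ?_)) ?_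
    · rw [hσn, ← hford, pow_orderOf_eq_one, map_one]; rfl
    · intro h1
      have hall : ∀ v : V, f v = v := fun v => by
        obtain ⟨φ, hφ⟩ := hsurj (Additive.ofMul v)
        have h2 := hσt φ
        rw [h1, RingAut.one_apply, hφ] at h2
        exact congrArg Additive.toMul h2.symm
      have : f = 1 := MulEquiv.ext hall
      rw [this, orderOf_one] at hford
      exact hl.one_lt.ne hford
  let Γ := Subgroup.zpowers σ
  have hfix : Nat.card (FixedPoints.subfield Γ K) = 2 := by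
    have h01 : (0 : K) ≠ 1 := zero_ne_one
    rw [Nat.card_eq_two_iff]
    refine ⟨0, 1, fun e => h01 (congrArg Subtype.val e), Set.eq_univ_of_forall fun φ => ?_⟩
    have h1 : σ (φ : K) = (φ : K) := φ.2 ⟨σ, Subgroup.mem_zpowers σ⟩
    have h2 : f (Additive.toMul (((φ : K) : AddMonoid.End W) t')) =
        Additive.toMul (((φ : K) : AddMonoid.End W) t') := by
      have h3 := hσt (φ : K)
      rw [h1] at h3
      exact congrArg Additive.toMul h3.symm
    rcases honly _ h2 with e | e
    · refine Or.inl (Subtype.ext (Subtype.ext ?_))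
      exact hev _ _ (φ : K).2 K.zero_mem (congrArg Additive.ofMul e)
    · refine Or.inr (Subtype.ext (Subtype.ext ?_))
      exact hev _ _ (φ : K).2 K.one_mem (congrArg Additive.ofMul e)
  haveI : Finite Γ := Finite.of_injective (fun γ : Γ => ((γ.1 : RingAut K) : K → K))
    fun x y h => Subtype.ext (RingEquiv.ext (congrFun h))
  haveI := Fintype.ofFinite Γ
  haveI : FaithfulSMul Γ K := ⟨fun {x y} h => Subtype.ext (RingEquiv.ext fun φ => h φ)⟩
  have hrank := FixedPoints.finrank_eq_card Γ K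
  have hcard : Nat.card V = Nat.card K := by
    refine (Nat.card_eq_of_bijective (fun φ : K => ((φ : AddMonoid.End W) t').toMul)
      ⟨fun φ ψ h => Subtype.ext (hev _ _ φ.2 ψ.2 (congrArg Additive.ofMul h)), fun v => ?_⟩).symm
    obtain ⟨φ, hφ⟩ := hsurj (Additive.ofMul v)
    exact ⟨φ, congrArg Additive.toMul hφ⟩
  rw [hcard, Module.natCard_eq_pow_finrank (K := FixedPoints.subfield Γ K), hfix, hrank,
    ← Nat.card_eq_fintype_card, Nat.card_zpowers, hord]

end Cfsg.Agent.H70.SE
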