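import Cfsg.Agent.CharBasic.Kernel
import Cfsg.Agent.CharInduce.Isometry
import Mathlib.GroupTheory.GroupAction.Quotient

/-!
# The exceptional family of a self-centralising abelian TI subgroup

`A` is abelian, `N` normalises it, a non-trivial element of `A` is only conjugated into `A` by
elements of `N`, and only the elements of `A` fix one.  The coefficients of the irreducible
characters of `G` on `A` are described by one signed family.
-/

namespace Cfsg.Agent.H70.SE

open scoped ComplexConjugate
open Cfsg Cfsg.Agent.CharBasic Cfsg.Agent.CharInduce Finset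

universe u

variable {G : Type u} [Group G]

/-- A self-centralising abelian TI subgroup `A` inside `N`. -/
structure Torus (A N : Subgroup G) : Prop where
  comm : ∀ a ∈ A, ∀ b ∈ A, a * b = b * a
  le : A ≤ N
  conj_mem : ∀ x ∈ N, ∀ a ∈ A, x * a * x⁻¹ ∈ A
  ti : ∀ a ∈ A, a ≠ 1 → ∀ x : G, x * a * x⁻¹ ∈ A → x ∈ N
  fpf : ∀ a ∈ A, a ≠ 1 → ∀ x ∈ N, x * a * x⁻¹ = a → x ∈ A

variable {A N : Subgroup G}

/-- Conjugation of `A` by the inverse of an element of `N`. -/
def Torus.cj (h : Torus A N) (x : N) : A →* A where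
  toFun a := ⟨(x : G)⁻¹ * a * x, by simpa using h.conj_mem _ (inv_mem x.2) a a.2⟩
  map_one' := Subtype.ext (by simp)
  map_mul' a b := Subtype.ext (by simp [mul_assoc])

theorem Torus.cj_apply (h : Torus A N) (x : N) (a : A) :
    (h.cj x a : G) = (x : G)⁻¹ * a * x := rfl

theorem Torus.cj_surjective (h : Torus A N) (x : N) : Function.Surjective (h.cj x) := fun a =>
  ⟨⟨(x : G) * a * (x : G)⁻¹, h.conj_mem _ x.2 a a.2⟩, Subtype.ext (by simp [Torus.cj_apply, mul_assoc])⟩

/-- The trivial character of `A`. -/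
noncomputable def one₀ : IrrCharacter A := ⟨fun _ => 1, isIrrCharacter_one⟩

/-- The coefficient of a character of `A` in a function on `G`. -/
noncomputable def coef [Fintype A] (χ : G → ℂ) (l : IrrCharacter A) : ℂ :=
  classInner (fun a : A => χ a) (l : A → ℂ)

variable [Finite G]

theorem Torus.comm' (h : Torus A N) (a b : A) : a * b = b * a :=
  Subtype.ext (h.comm a a.2 b b.2)

theorem Torus.deg_one (h : Torus A N) (l : IrrCharacter A) : (l : A → ℂ) 1 = 1 :=
  commutative_iff_forall_linear.1 h.comm' l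

theorem Torus.exists_hom (h : Torus A N) (l : IrrCharacter A) :
    ∃ f : A →* ℂˣ, ∀ a, (l : A → ℂ) a = (f a : ℂ) :=
  IsChar.exists_hom_of_degree_one (CharBasic.IsIrr.isCharacter l.2) (h.deg_one l)

theorem Torus.card_irr (h : Torus A N) : Nat.card (IrrCharacter A) = Nat.card A := by
  rw [card_irrCharacter]
  refine (Nat.card_congr (Equiv.ofBijective ConjClasses.mk ⟨fun a b hab => ?_,
    ConjClasses.mk_surjective⟩)).symm
  obtain ⟨c, rfl⟩ := isConj_iff.1 (ConjClasses.mk_eq_mk_iff_isConj.1 hab)
  rw [h.comm' c a, mul_inv_cancel_right]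

/-- The action of `N` on the characters of `A`. -/
noncomputable def Torus.act (h : Torus A N) : MulAction N (IrrCharacter A) where
  smul x l := ⟨fun a => (l : A → ℂ) (h.cj x a), IsIrr.comp l.2 (h.cj x) (h.cj_surjective x)⟩
  one_smul l := Subtype.ext (funext fun a =>
    congrArg (l : A → ℂ) (Subtype.ext (by simp [Torus.cj_apply])))
  mul_smul x y l := Subtype.ext (funext fun a =>
    congrArg (l : A → ℂ) (Subtype.ext (by simp [Torus.cj_apply, mul_assoc])))

/-- A non-trivial character of `A` is only fixed by `A`. -/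
theorem Torus.mem_of_fixed (h : Torus A N) {l : IrrCharacter A} (hl : l ≠ one₀) {x : N}
    (hx : ∀ a, (l : A → ℂ) (h.cj x a) = (l : A → ℂ) a) : (x : G) ∈ A := by
  by_contra hxA
  obtain ⟨f, hf⟩ := h.exists_hom l
  apply hl
  let d : A → A := fun a => a⁻¹ * h.cj x a
  have hinj : Function.Injective d := by
    intro a b hab
    have h1 : h.cj x (a * b⁻¹) = a * b⁻¹ := by
      have hab' : h.cj x a * (h.cj x b)⁻¹ = a * b⁻¹ := by
        have : h.cj x a = a * (b⁻¹ * h.cj x b) := by
          rw [← show a⁻¹ * h.cj x a = b⁻¹ * h.cj x b from hab, mul_inv_cancel_left]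
        rw [this, mul_assoc, mul_assoc, mul_inv_cancel, mul_one]
      rw [map_mul, map_inv, hab']
    have h2 : (a * b⁻¹ : A) = 1 := by
      by_contra hne
      refine hxA (h.fpf (a * b⁻¹ : A) (a * b⁻¹ : A).2 (fun e => hne (Subtype.ext e)) x x.2 ?_)
      have h3 := congrArg Subtype.val h1
      rw [Torus.cj_apply] at h3
      conv_lhs => rw [← h3]
      group
    rwa [mul_inv_eq_one] at h2
  have hsurj : Function.Surjective d := Finite.injective_iff_surjective.1 hinj
  refine Subtype.ext (funext fun b => ?_)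
  obtain ⟨a, rfl⟩ := hsurj b
  have := hx a
  rw [hf, hf, Units.val_inj] at this
  show (l : A → ℂ) (a⁻¹ * h.cj x a) = 1
  rw [hf, map_mul, map_inv, this, inv_mul_cancel, Units.val_one]

theorem sum_irr_eq (h : Torus A N) [Fintype A] (l : IrrCharacter A) [DecidableEq (IrrCharacter A)] :
    ∑ a : A, (l : A → ℂ) a = if l = one₀ then (Nat.card A : ℂ) else 0 := by
  have hc : (Nat.card A : ℂ) ≠ 0 := card_ne_zero_complex A
  have h1 := classInner_irrCharacter l one₀
  have e : ∀ a : A, conj ((one₀ : IrrCharacter A).1 a) = 1 := fun a => map_one _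
  simp only [classInner_def, e, mul_one] at h1
  have h2 : ∑ a : A, (l : A → ℂ) a = (Nat.card A : ℂ) *
      ((Nat.card A : ℂ)⁻¹ * ∑ a : A, (l : A → ℂ) a) := by field_simp
  rw [h2, h1]
  by_cases hl : l = one₀
  · subst hl; simp
  · rw [if_neg hl, if_neg hl, mul_zero]

variable [Fintype G]

open scoped Classical in
/-- Values of an induced character on `A`. -/
theorem Torus.indFun_apply (h : Torus A N) (l : IrrCharacter A) (a : A) (ha : a ≠ 1) [Fintype N] :
    (Nat.card A : ℂ) * indFun A (l : A → ℂ) a = ∑ x : N, (l : A → ℂ) (h.cj x a) := by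
  rw [card_mul_indFun]
  symm
  refine Finset.sum_bij_ne_zero (fun x _ _ => (x : G)) (fun _ _ _ => Finset.mem_univ _)
    (fun x _ _ y _ _ hxy => Subtype.ext hxy) (fun x _ hx => ?_) fun x _ _ => ?_
  · by_cases hxA : x⁻¹ * (a : G) * x ∈ A
    · have hxN : x ∈ N := by
        have := h.ti a a.2 (fun e => ha (Subtype.ext e)) x⁻¹ (by simpa using hxA)
        simpa using N.inv_mem this
      refine ⟨⟨x, hxN⟩, Finset.mem_univ _, ?_, rfl⟩
      rw [extendByZero_of_mem _ hxA] at hx
      exact hx
    · exact absurd (extendByZero_of_not_mem _ hxA) hx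
  · rw [show ((x : G))⁻¹ * (a : G) * x = ((h.cj x a : A) : G) from rfl, extendByZero_coe]

/-- The number of elements of `N` carrying one character of `A` to another. -/
noncomputable def Torus.movers (h : Torus A N) (l l' : IrrCharacter A) : ℕ :=
  Nat.card {x : N // ∀ a, (l : A → ℂ) (h.cj x a) = (l' : A → ℂ) a}

open scoped Classical in
/-- Inner products of characters induced from `A`. -/
theorem Torus.gram (h : Torus A N) [Fintype A] [Fintype N] (l l' : IrrCharacter A) :
    classInner (indFun A (l : A → ℂ)) (indFun A (l' : A → ℂ)) =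
      ((Nat.card G : ℂ) - Nat.card N) / (Nat.card A : ℂ) ^ 2
        + (h.movers l l' : ℂ) / Nat.card A := by
  have hc : (Nat.card A : ℂ) ≠ 0 := card_ne_zero_complex A
  rw [classInner_indFun_right A (l' : A → ℂ) _ (isClassFunction_indFun A _), classInner_def]
  have hval : ∀ a : A, (Nat.card A : ℂ) * indFun A (l : A → ℂ) a =
      ∑ x : N, (l : A → ℂ) (h.cj x a) + if a = 1 then (Nat.card G : ℂ) - Nat.card N else 0 := by
    intro a
    split_ifs with ha
    · subst ha
      rw [OneMemClass.coe_one, indFun_one, h.deg_one, mul_one, ← Nat.cast_mul, A.card_mul_index]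
      simp [h.deg_one, Nat.card_eq_fintype_card]
    · rw [add_zero, h.indFun_apply l a ha]
  have horth : ∀ x : N, ∑ a : A, (l : A → ℂ) (h.cj x a) * conj ((l' : A → ℂ) a) =
      if (∀ a, (l : A → ℂ) (h.cj x a) = (l' : A → ℂ) a) then (Nat.card A : ℂ) else 0 := by
    intro x
    let lx : IrrCharacter A := ⟨fun a => (l : A → ℂ) (h.cj x a),
      IsIrr.comp l.2 (h.cj x) (h.cj_surjective x)⟩
    have h1 := classInner_irrCharacter lx l'
    rw [classInner_def, inv_mul_eq_iff_eq_mul₀ hc] at h1
    rw [h1]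
    by_cases he : lx = l'
    · rw [if_pos he, if_pos fun a => congrFun (congrArg Subtype.val he) a, mul_one]
    · rw [if_neg he, if_neg fun ha => he (Subtype.ext (funext ha)), mul_zero]
  have hsum : (Nat.card A : ℂ) * ∑ a : A, indFun A (l : A → ℂ) a * conj ((l' : A → ℂ) a) =
      (Nat.card A : ℂ) * (h.movers l l' : ℂ) + ((Nat.card G : ℂ) - Nat.card N) := by
    rw [Finset.mul_sum]
    simp only [← mul_assoc, hval, add_mul, Finset.sum_add_distrib, Finset.sum_mul, ite_mul,
      zero_mul]
    rw [Finset.sum_comm, Finset.sum_congr rfl fun x _ => horth x, Finset.sum_ite_eq' ]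
    simp [h.deg_one, ← Finset.sum_filter, Torus.movers, Nat.card_eq_fintype_card,
      Fintype.card_subtype, mul_comm]
  field_simp
  linear_combination hsum

theorem Torus.movers_one (h : Torus A N) : h.movers one₀ one₀ = Nat.card N :=
  Nat.card_congr ⟨Subtype.val, fun x => ⟨x, fun _ => rfl⟩, fun _ => rfl, fun _ => rfl⟩

theorem Torus.movers_zero (h : Torus A N) {l l' : IrrCharacter A}
    (hne : ∀ x : N, ¬ ∀ a, (l : A → ℂ) (h.cj x a) = (l' : A → ℂ) a) : h.movers l l' = 0 :=
  Nat.card_eq_zero.2 (Or.inl ⟨fun x => hne x.1 x.2⟩)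

theorem Torus.movers_self (h : Torus A N) {l : IrrCharacter A} (hl : l ≠ one₀) :
    h.movers l l = Nat.card A := by
  obtain ⟨f, hf⟩ := h.exists_hom l
  refine Nat.card_congr ⟨fun x => ⟨x.1, h.mem_of_fixed hl x.2⟩,
    fun a => ⟨⟨a.1, h.le a.2⟩, fun b => congrArg (l : A → ℂ) (Subtype.ext ?_)⟩,
    fun x => rfl, fun a => rfl⟩
  rw [Torus.cj_apply]
  show (a : G)⁻¹ * b * a = b
  rw [mul_assoc, h.comm b b.2 a a.2, inv_mul_cancel_left]

open scoped Classical in
/-- Orbit representatives of the non-trivial characters of `A`. -/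
theorem Torus.exists_reps (h : Torus A N) [Fintype A] {e : ℕ} (he : Nat.card N = e * Nat.card A) :
    ∃ (k : ℕ) (lam : Fin k → IrrCharacter A), k * e + 1 = Nat.card A ∧ (∀ i, lam i ≠ one₀) ∧
      (∀ i j, i ≠ j → h.movers (lam i) (lam j) = 0) ∧
      ∀ f : IrrCharacter A → ℤ, (∀ (x : N) (l l' : IrrCharacter A),
          (∀ a, (l : A → ℂ) (h.cj x a) = (l' : A → ℂ) a) → f l = f l') →
        ∑ l, f l = f one₀ + e * ∑ i, f (lam i) := by
  letI := h.act
  let q : IrrCharacter A → MulAction.orbitRel.Quotient N (IrrCharacter A) := Quotient.mk''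
  haveI : Fintype (MulAction.orbitRel.Quotient N (IrrCharacter A)) := Fintype.ofFinite _
  let Q := {ω : MulAction.orbitRel.Quotient N (IrrCharacter A) // ω ≠ q one₀}
  let eq : Fin (Fintype.card Q) ≃ Q := (Fintype.equivFin Q).symm
  let lam : Fin (Fintype.card Q) → IrrCharacter A := fun i => Quotient.out (eq i).1
  have hq : ∀ i, q (lam i) = (eq i).1 := fun i => Quotient.out_eq _
  have hne : ∀ i, lam i ≠ one₀ := fun i e => (eq i).2 (by rw [← hq i, e])
  have hrel : ∀ l l', q l = q l' ↔ ∃ x : N, x • l' = l := fun l l' => Quotient.eq''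
  have hone : ∀ l, q l = q one₀ → l = one₀ := by
    intro l hl
    obtain ⟨x, rfl⟩ := (hrel _ _).1 hl
    exact Subtype.ext rfl
  have hfib : ∀ i, Fintype.card {l // q l = (eq i).1} = e := by
    intro i
    have h1 := MulAction.card_orbit_mul_card_stabilizer_eq_card_group N (lam i)
    have h2 : Fintype.card (MulAction.orbit N (lam i)) = Fintype.card {l // q l = (eq i).1} :=
      Fintype.card_congr (Equiv.subtypeEquivRight fun l => by
        rw [← hq i, hrel, MulAction.mem_orbit_iff])
    have h3 : Nat.card (MulAction.stabilizer N (lam i)) = Nat.card A := by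
      rw [← h.movers_self (hne i)]
      exact Nat.card_congr (Equiv.subtypeEquivRight fun x => by
        rw [MulAction.mem_stabilizer_iff]
        exact ⟨fun hx a => congrFun (congrArg Subtype.val hx) a, fun hx => Subtype.ext (funext hx)⟩)
    rw [← h2]
    rw [← Nat.card_eq_fintype_card, ← Nat.card_eq_fintype_card, ← Nat.card_eq_fintype_card, h3,
      he] at h1
    rw [← Nat.card_eq_fintype_card]
    exact mul_right_cancel₀ (Nat.card_pos.ne') h1
  have hsum : ∀ f : IrrCharacter A → ℤ, (∀ (x : N) (l l' : IrrCharacter A),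
      (∀ a, (l : A → ℂ) (h.cj x a) = (l' : A → ℂ) a) → f l = f l') →
      ∑ l, f l = f one₀ + e * ∑ i, f (lam i) := by
    intro f hf
    rw [← Fintype.sum_fiberwise q f, ← Finset.add_sum_erase _ _ (Finset.mem_univ (q one₀))]
    congr 1
    · exact Fintype.sum_eq_single (⟨one₀, rfl⟩ : {l // q l = q one₀})
        fun l hl => absurd (Subtype.ext (hone _ l.2)) hl
    · rw [Finset.mul_sum, Finset.sum_subtype (Finset.univ.erase (q one₀))
        (fun ω => (by simp : ω ∈ Finset.univ.erase (q one₀) ↔ ω ≠ q one₀))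
        (fun ω => ∑ l : {l // q l = ω}, f l), ← Equiv.sum_comp eq]
      refine Finset.sum_congr rfl fun i _ => ?_
      rw [Finset.sum_congr rfl fun (l : {l // q l = (eq i).1}) _ => ?_, Finset.sum_const,
        Finset.card_univ, hfib, nsmul_eq_mul]
      obtain ⟨x, hx⟩ := (hrel l.1 (lam i)).1 (l.2.trans (hq i).symm)
      exact (hf x (lam i) l.1 fun a => congrFun (congrArg Subtype.val hx) a).symm
  refine ⟨_, lam, ?_, hne, fun i j hij => ?_, hsum⟩
  · have h1 := hsum (fun _ => 1) fun _ _ _ _ => rfl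
    simp only [Finset.sum_const, Finset.card_univ, nsmul_eq_mul, mul_one,
      ← Nat.card_eq_fintype_card, h.card_irr] at h1
    have h2 : ((Fintype.card Q * e + 1 : ℕ) : ℤ) = (Nat.card A : ℤ) := by
      rw [h1]; simp; ring
    exact_mod_cast h2
  · refine h.movers_zero fun x hx => hij (eq.injective (Subtype.ext ?_))
    rw [← hq i, ← hq j]
    exact ((hrel _ _).2 ⟨x, Subtype.ext (funext hx)⟩).symm

open scoped Classical in
/-- The coefficients of the characters of `G` on `A`: the exceptional family `E`, the values `c`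
of the others, and the two relations. -/
theorem Torus.exists_family (h : Torus A N) {e : ℕ} (he : Nat.card N = e * Nat.card A)
    (hm : 1 < Nat.card A) :
    ∃ (k : ℕ) (ε cE : ℤ) (E : Fin k → IrrCharacter G) (c : IrrCharacter G → ℤ),
      k * e + 1 = Nat.card A ∧ (ε = 1 ∨ ε = -1) ∧ Function.Injective E ∧
      (∀ χ ∈ (univ.image E)ᶜ, ∃ z : ℤ,
        (χ : G → ℂ) 1 = ((c χ + Nat.card A * z : ℤ) : ℂ)) ∧
      (∀ i j, (E i : G → ℂ) 1 = (E j : G → ℂ) 1) ∧
      (∀ i, ∃ z : ℤ, (E i : G → ℂ) 1 = ((cE + ε * e + Nat.card A * z : ℤ) : ℂ)) ∧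
      ∑ χ ∈ (univ.image E)ᶜ, c χ ^ 2 + k * cE ^ 2 - 2 * ε * cE = e ∧
      ∀ (μ : IrrCharacter G → ℤ) (v : ℤ),
        (∀ a ∈ A, a ≠ 1 → ∑ χ, (μ χ : ℂ) * (χ : G → ℂ) a = v) →
        (∀ i j, μ (E i) = μ (E j)) ∧
          ∀ i, v = ∑ χ ∈ (univ.image E)ᶜ, μ χ * c χ + μ (E i) * (k * cE - ε) := by
  haveI : Fintype A := Fintype.ofFinite A
  haveI : Fintype N := Fintype.ofFinite N
  obtain ⟨k, lam, hk, hne, hmov, hsum⟩ := h.exists_reps he
  have hcA : (Nat.card A : ℂ) ≠ 0 := card_ne_zero_complex A
  obtain ⟨k, rfl⟩ : ∃ k', k = k' + 1 := ⟨k - 1, by rcases k with _ | k <;> omega⟩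
  have hA : ∀ l : IrrCharacter A, IsCharacter A (l : A → ℂ) := fun l => IsIrr.isCharacter l.2
  choose a ha using fun (χ : IrrCharacter G) (l : IrrCharacter A) =>
    IsGen.exists_int_coeff (IsGen.of_char (IsChar.ind A (hA l))) (IsIrr.isCharacter χ.2)
  have hres : ∀ (χ : IrrCharacter G) (l : IrrCharacter A), classInner (fun x : A => (χ : G → ℂ) x) (l : A → ℂ) = (a χ l : ℂ) := by
    intro χ l
    have h1 := congrArg conj (ha χ l)
    rwa [conj_classInner, classInner_indFun_right A (l : A → ℂ) _
      (IsIrr.isClassFunction χ.2), map_intCast] at h1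
  -- the inner products
  set X : ℂ := ((Nat.card G : ℂ) - Nat.card N) / (Nat.card A : ℂ) ^ 2 with hX
  let I : IrrCharacter A → G → ℂ := fun l => indFun A (l : A → ℂ)
  have g11 : classInner (I one₀) (I one₀) = X + e := by
    rw [h.gram, h.movers_one, ← hX, he, Nat.cast_mul, mul_div_assoc, div_self hcA, mul_one]
  have gij : ∀ i j, classInner (I (lam i)) (I (lam j)) = X + if i = j then 1 else 0 := by
    intro i j
    rw [h.gram]
    split_ifs with hij
    · subst hij; rw [h.movers_self (hne i), div_self hcA]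
    · rw [hmov i j hij, Nat.cast_zero, zero_div]
  have g1i : ∀ i, classInner (I one₀) (I (lam i)) = X := by
    intro i
    rw [h.gram, h.movers_zero fun x hx => hne i (Subtype.ext (funext fun b => (hx b).symm))]
    simp [hX]
  have gi1 : ∀ i, classInner (I (lam i)) (I one₀) = X := by
    intro i
    rw [h.gram, h.movers_zero fun x hx => hne i (Subtype.ext (funext fun b => ?_))]
    · simp [hX]
    · obtain ⟨c, rfl⟩ := h.cj_surjective x b
      exact hx c
  -- the signed family
  let τ : Fin (k + 1) → G → ℂ := fun i => I (lam i) - I (lam 0)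
  obtain ⟨ε, hε, μ, hμ, hinj, hτ⟩ := Isometry.exists_signed_family (k + 1) 0 τ (sub_self _)
    (fun i => IsGen.sub (IsGen.of_char (IsChar.ind A (hA _))) (IsGen.of_char (IsChar.ind A (hA _))))
    (fun i => by simp [τ, I, indFun_one, h.deg_one])
    (fun i j hi hj => by
      simp only [τ, classInner_sub_left, classInner_sub_right, gij, if_neg hi, if_neg hj.symm]
      split_ifs <;> norm_num)
  let E : Fin (k + 1) → IrrCharacter G := fun i => ⟨μ i, hμ i⟩
  have hE : Function.Injective E := fun i j hij => hinj (congrArg Subtype.val hij)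
  obtain ⟨εz, hεz, rfl⟩ : ∃ εz : ℤ, (εz = 1 ∨ εz = -1) ∧ ε = (εz : ℂ) := by
    rcases hε with rfl | rfl
    · exact ⟨1, Or.inl rfl, by simp⟩
    · exact ⟨-1, Or.inr rfl, by simp⟩
  have hrow : ∀ χ j, a χ (lam j) - a χ (lam 0) =
      εz * ((if χ = E j then 1 else 0) - if χ = E 0 then 1 else 0) := by
    intro χ j
    have h1 : classInner (τ j) (χ : G → ℂ) = ((a χ (lam j) - a χ (lam 0) : ℤ) : ℂ) := by
      simp only [τ, I, classInner_sub_left, ha, Int.cast_sub]
    rw [hτ j, classInner_smul_left, classInner_sub_left,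
      show μ j = (E j : G → ℂ) from rfl, show μ 0 = (E 0 : G → ℂ) from rfl,
      classInner_irrCharacter, classInner_irrCharacter] at h1
    apply Int.cast_injective (α := ℂ)
    rw [← h1]
    simp only [eq_comm (a := χ)]
    push_cast
    ring
  let c : IrrCharacter G → ℤ := fun χ => a χ one₀ - a χ (lam 0)
  let φ : G → ℂ := I one₀ - I (lam 0)
  have hφ : ∀ χ : IrrCharacter G, classInner φ (χ : G → ℂ) = (c χ : ℂ) := fun χ => by
    simp only [φ, I, c, classInner_sub_left, ha, Int.cast_sub]
  have hcE : ∀ j, c (E j) = c (E 0) + εz - εz * if j = 0 then 1 else 0 := by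
    intro j
    by_cases hj : j = 0
    · subst hj; simp
    rw [if_neg hj, mul_zero, sub_zero]
    have h2 : classInner φ (τ j) = 1 := by
      simp only [φ, τ, classInner_sub_left, classInner_sub_right, g1i, gij, if_neg (Ne.symm hj)]
      simp
    rw [hτ j, classInner_smul_right, classInner_sub_right, show μ j = (E j : G → ℂ) from rfl,
      show μ 0 = (E 0 : G → ℂ) from rfl, hφ, hφ, map_intCast] at h2
    have h3 : εz * (c (E j) - c (E 0)) = 1 := by exact_mod_cast h2
    rcases hεz with rfl | rfl <;> linarith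
  set cE := c (E 0) + εz with hcEdef
  have hcomp : ∀ f : IrrCharacter G → ℤ,
      ∑ χ, f χ = ∑ χ ∈ (univ.image E)ᶜ, f χ + ∑ i, f (E i) := by
    intro f
    rw [← Finset.sum_image (g := E) (fun i _ j _ hij => hE hij), Finset.sum_compl_add_sum]
  have hE1 : ∀ i j, (E i : G → ℂ) 1 = (E j : G → ℂ) 1 := by
    have h0 : ∀ i, (E i : G → ℂ) 1 = (E 0 : G → ℂ) 1 := by
      intro i
      have h1 : τ i 1 = 0 := by simp [τ, I, indFun_one, h.deg_one]
      rw [hτ i, Pi.smul_apply, smul_eq_mul, mul_eq_zero, Int.cast_eq_zero, Pi.sub_apply,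
        sub_eq_zero] at h1
      refine h1.resolve_left ?_
      rcases hεz with rfl | rfl <;> norm_num
    exact fun i j => (h0 i).trans (h0 j).symm
  refine ⟨k + 1, εz, cE, E, c, hk, hεz, hE, ?_, hE1, ?_, ?_, ?_⟩
  rotate_right 1
  · intro ν v hv
    let ψ : A → ℂ := fun x => ∑ χ, (ν χ : ℂ) * (χ : G → ℂ) x
    have hψ : ∀ l l' : IrrCharacter A, (∑ χ, ν χ * (a χ l - a χ l') : ℤ) =
        (v : ℂ) * ((if l = one₀ then 1 else 0) - if l' = one₀ then 1 else 0) := by
      intro l l'
      have h1 : classInner ψ (l : A → ℂ) - classInner ψ (l' : A → ℂ) =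
          ((∑ χ, ν χ * (a χ l - a χ l') : ℤ) : ℂ) := by
        have h0 : ψ = ∑ χ, (ν χ : ℂ) • fun x : A => (χ : G → ℂ) x := by
          funext x; simp [ψ, Finset.sum_apply]
        rw [h0, classInner_sum_left, classInner_sum_left, ← Finset.sum_sub_distrib]
        push_cast
        refine Finset.sum_congr rfl fun χ _ => ?_
        rw [classInner_smul_left, classInner_smul_left, hres, hres, mul_sub]
      have h2 : ∀ x : A, ψ x * conj ((l : A → ℂ) x) - ψ x * conj ((l' : A → ℂ) x) =
          (v : ℂ) * conj ((l : A → ℂ) x - (l' : A → ℂ) x) := by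
        intro x
        by_cases hx : x = 1
        · subst hx; simp [h.deg_one]
        · rw [← mul_sub, ← map_sub]
          exact congrArg (· * _) (hv x x.2 fun e => hx (Subtype.ext e))
      rw [← h1, classInner_def, classInner_def, ← mul_sub, ← Finset.sum_sub_distrib,
        Finset.sum_congr rfl fun x _ => h2 x, ← Finset.mul_sum, ← map_sum,
        Finset.sum_sub_distrib, sum_irr_eq h, sum_irr_eq h]
      split_ifs <;> simp <;> field_simp
    have hconst : ∀ i, ν (E i) = ν (E 0) := by
      intro i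
      have h1 := hψ (lam i) (lam 0)
      rw [if_neg (hne i), if_neg (hne 0), sub_self, mul_zero, Int.cast_eq_zero] at h1
      have h2 : εz * (ν (E i) - ν (E 0)) = 0 := by
        rw [← h1]
        simp only [hrow, mul_sub, mul_ite, mul_one, mul_zero, Finset.sum_sub_distrib,
          Finset.sum_ite_eq', mem_univ, if_true]
        ring
      rcases hεz with rfl | rfl <;> linarith
    refine ⟨fun i j => (hconst i).trans (hconst j).symm, fun i => ?_⟩
    have h1 := hψ one₀ (lam 0)
    rw [if_pos rfl, if_neg (hne 0), sub_zero, mul_one, Int.cast_inj] at h1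
    rw [← h1, hcomp, hconst i]
    congr 1
    show ∑ j, ν (E j) * c (E j) = _
    simp only [hconst, hcE, ← Finset.mul_sum, Finset.sum_sub_distrib, Finset.sum_ite_eq',
      Finset.mem_univ, if_true, Finset.sum_const, Finset.card_univ, Fintype.card_fin]
    simp [← Finset.mul_sum, cE]
  all_goals try
    have hdeg : ∀ χ : IrrCharacter G, (χ : G → ℂ) 1 = ((c χ + Nat.card A * a χ (lam 0) +
        εz * e * (∑ i, if χ = E i then (1 : ℤ) else 0)
        - (Nat.card A - 1) * εz * (if χ = E 0 then 1 else 0) : ℤ) : ℂ) := by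
      intro χ
      have hcl : IsClassFunction A (fun x : A => (χ : G → ℂ) x) :=
        IsChar.isClassFunction (IsChar.res (IsIrr.isCharacter χ.2) A)
      have h1 := congrFun (classFunction_expansion hcl) 1
      simp only [Finset.sum_apply, Pi.smul_apply, hres, h.deg_one, smul_eq_mul, mul_one,
        OneMemClass.coe_one] at h1
      rw [h1, ← Int.cast_sum, Int.cast_inj, hsum (a χ) fun x l l' hl => ?_,
        Finset.sum_congr rfl fun i _ => (sub_eq_iff_eq_add.1 (hrow χ i))]
      · simp only [Finset.sum_add_distrib, ← Finset.mul_sum, Finset.sum_sub_distrib,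
          Finset.sum_const, Finset.card_univ, Fintype.card_fin, nsmul_eq_mul, c]
        have : (Nat.card A : ℤ) = (k + 1) * e + 1 := by rw [← hk]; push_cast; ring
        rw [this]; push_cast; ring
      · have h3 : classInner (fun y : A => (χ : G → ℂ) y) (l : A → ℂ) =
            classInner (fun y : A => (χ : G → ℂ) y) (l' : A → ℂ) := by
          rw [classInner_def, classInner_def]
          refine congrArg _ (Fintype.sum_bijective _
            ⟨Finite.injective_iff_surjective.2 (h.cj_surjective x), h.cj_surjective x⟩ _ _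
            fun y => ?_).symm
          show _ = (χ : G → ℂ) (h.cj x y) * _
          rw [hl, Torus.cj_apply]
          congr 1
          have := IsIrr.isClassFunction χ.2 (y : G) (x : G)⁻¹
          rw [inv_inv] at this
          exact this.symm
        rw [hres, hres, Int.cast_inj] at h3
        exact h3
  · intro χ hχ
    have hχ' : ∀ i, χ ≠ E i := fun i e' => by simp [e'] at hχ
    refine ⟨a χ (lam 0), ?_⟩
    rw [hdeg χ]
    simp [hχ']
  · intro j
    refine ⟨a (E j) (lam 0) - εz * if j = 0 then 1 else 0, ?_⟩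
    rw [hdeg (E j), hcE j, Int.cast_inj]
    simp only [hE.eq_iff, Finset.sum_ite_eq, Finset.mem_univ, if_true]
    ring
  · have h1 : classInner φ φ = (e : ℂ) + 1 := by
      simp only [φ, classInner_sub_left, classInner_sub_right, g11, g1i, gi1, gij]
      simp
    have hφc : IsClassFunction G φ := fun g y => by
      simp only [φ, I, Pi.sub_apply, isClassFunction_indFun A _ g y]
    rw [classInner_eq_sum hφc] at h1
    simp only [hφ, map_intCast] at h1
    have h2 : ∑ χ, c χ * c χ = (e : ℤ) + 1 := by exact_mod_cast h1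
    rw [hcomp] at h2
    have h3 : ∑ i, c (E i) * c (E i) = (k + 1 : ℕ) * cE ^ 2 - 2 * εz * cE + 1 := by
      rw [Finset.sum_congr rfl fun i _ => show c (E i) * c (E i) =
        cE ^ 2 - (2 * εz * cE - εz ^ 2) * if i = 0 then 1 else 0 by
          rw [hcE i]; split_ifs <;> ring]
      rw [Finset.sum_sub_distrib, ← Finset.mul_sum, Finset.sum_ite_eq']
      rcases hεz with rfl | rfl <;> simp <;> ring
    simp only [sq] at h3 ⊢
    linarith

end Cfsg.Agent.H70.SE
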