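import Mathlib.Algebra.BigOperators.Ring.Finset
import Mathlib.Algebra.Order.BigOperators.Group.Finset
import Mathlib.Tactic.Linarith
import Mathlib.Tactic.LinearCombination
import Mathlib.Tactic.IntervalCases
import Mathlib.Tactic.Ring
import Mathlib.Tactic.NormNum
import Mathlib.Data.Nat.Sqrt

/-!
# Strongly embedded subgroups, the field automorphism of prime order: arithmetic

The counting part of step 4 of notes/helper70_bender_H1.md.  The index set runs over the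
non-exceptional constituents of the induced character, `μ` is the multiplicity, `d` the value at an
involution and `c` the constant value on the torus.
-/

namespace Cfsg.Agent.H70.SE.FieldArith

open Finset

variable {ι : Type*} [DecidableEq ι]

omit [DecidableEq ι] in
theorem sum_sq_le_sq_sum_nat (s : Finset ι) (f : ι → ℤ) (hf : ∀ i ∈ s, 0 ≤ f i) :
    ∑ i ∈ s, f i ^ 2 ≤ (∑ i ∈ s, f i) ^ 2 := by
  rw [sq (∑ i ∈ s, f i), Finset.sum_mul]
  refine Finset.sum_le_sum fun i hi => ?_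
  rw [sq]
  exact mul_le_mul_of_nonneg_left (Finset.single_le_sum hf hi) (hf i hi)

/-- The split into the characters with `2 d = c` and the others. -/
theorem split (s : Finset ι) (μ d c e : ι → ℤ) (m B R : ℤ)
    (hμ : ∀ i ∈ s, 1 ≤ μ i) (hd : ∀ i ∈ s, 1 ≤ d i) (hde : ∀ i ∈ s, 2 * d i = c i + m * e i)
    (he : ∀ i ∈ s, 0 ≤ e i) (hB : ∑ i ∈ s, c i ^ 2 ≤ B) (hR0 : 0 ≤ R) (hBR : B < (R + 1) ^ 2) :
    ∃ S T U : ℤ, 0 ≤ S ∧ 0 ≤ U ∧ U ≤ ∑ i ∈ s, μ i * e i ∧
      ∑ i ∈ s, μ i * c i = 2 * S + T ∧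
      ∑ i ∈ s, μ i ^ 2 ≤ U ^ 2 + S ^ 2 ∧
      (T ≤ U * R ∧ -(U * R) ≤ T) ∧
      (∀ R' : ℤ, 0 ≤ R' → B - 4 < (R' + 1) ^ 2 → 0 < S → T ≤ U * R' ∧ -(U * R') ≤ T) := by
  classical
  set small := s.filter (fun i => e i = 0) with hsmall
  set big := s.filter (fun i => ¬ e i = 0) with hbig
  have hspl : ∀ f : ι → ℤ, ∑ i ∈ s, f i = ∑ i ∈ small, f i + ∑ i ∈ big, f i := fun f =>
    (Finset.sum_filter_add_sum_filter_not s _ f).symm
  have hsm : ∀ i ∈ small, i ∈ s ∧ c i = 2 * d i := by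
    intro i hi
    rw [hsmall, mem_filter] at hi
    refine ⟨hi.1, ?_⟩
    have h := hde i hi.1
    rw [hi.2, mul_zero, add_zero] at h
    exact h.symm
  have hbg : ∀ i ∈ big, i ∈ s ∧ 1 ≤ e i := by
    intro i hi
    rw [hbig, mem_filter] at hi
    exact ⟨hi.1, by have := he i hi.1; omega⟩
  have hbound : ∀ (C : ℤ) (hC : 0 ≤ C), (∀ i ∈ big, c i ^ 2 < (C + 1) ^ 2) →
      ∑ i ∈ big, μ i * c i ≤ (∑ i ∈ big, μ i) * C ∧
        -((∑ i ∈ big, μ i) * C) ≤ ∑ i ∈ big, μ i * c i := by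
    intro C hC h
    have hc : ∀ i ∈ big, c i ≤ C ∧ -C ≤ c i := fun i hi => by
      constructor <;> nlinarith [h i hi]
    rw [Finset.sum_mul, ← Finset.sum_neg_distrib]
    constructor
    · refine Finset.sum_le_sum fun i hi => ?_
      exact mul_le_mul_of_nonneg_left (hc i hi).1 (by linarith [hμ i (hbg i hi).1])
    · refine Finset.sum_le_sum fun i hi => ?_
      rw [← mul_neg]
      exact mul_le_mul_of_nonneg_left (hc i hi).2 (by linarith [hμ i (hbg i hi).1])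
  refine ⟨∑ i ∈ small, μ i * d i, ∑ i ∈ big, μ i * c i, ∑ i ∈ big, μ i, ?_, ?_, ?_, ?_, ?_,
    hbound R hR0 fun i hi => lt_of_le_of_lt ?_ hBR, ?_⟩
  · exact Finset.sum_nonneg fun i hi =>
      mul_nonneg (by linarith [hμ i (hsm i hi).1]) (by linarith [hd i (hsm i hi).1])
  · exact Finset.sum_nonneg fun i hi => by linarith [hμ i (hbg i hi).1]
  · rw [hspl fun i => μ i * e i]
    have h1 : ∑ i ∈ big, μ i ≤ ∑ i ∈ big, μ i * e i := Finset.sum_le_sum fun i hi =>
      le_mul_of_one_le_right (by linarith [hμ i (hbg i hi).1]) (hbg i hi).2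
    have h2 : 0 ≤ ∑ i ∈ small, μ i * e i := Finset.sum_nonneg fun i hi =>
      mul_nonneg (by linarith [hμ i (hsm i hi).1]) (he i (hsm i hi).1)
    linarith
  · rw [hspl fun i => μ i * c i, Finset.mul_sum]
    congr 1
    refine Finset.sum_congr rfl fun i hi => ?_
    rw [(hsm i hi).2]; ring
  · rw [hspl fun i => μ i ^ 2]
    have h1 := sum_sq_le_sq_sum_nat big μ fun i hi => by linarith [hμ i (hbg i hi).1]
    have h2 : ∑ i ∈ small, μ i ^ 2 ≤ (∑ i ∈ small, μ i * d i) ^ 2 :=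
      le_trans (Finset.sum_le_sum fun i hi => by
          have := hμ i (hsm i hi).1
          have := hd i (hsm i hi).1
          nlinarith [mul_le_mul_of_nonneg_left this (by linarith : (0 : ℤ) ≤ μ i)])
        (sum_sq_le_sq_sum_nat small (fun i => μ i * d i) fun i hi =>
          mul_nonneg (by linarith [hμ i (hsm i hi).1]) (by linarith [hd i (hsm i hi).1]))
    linarith
  · exact le_trans (Finset.single_le_sum (f := fun i => c i ^ 2) (fun j _ => sq_nonneg (c j))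
      (hbg i hi).1) hB
  · intro R' hR' hBR' hS
    obtain ⟨j, hj⟩ : small.Nonempty := by
      by_contra h
      rw [Finset.not_nonempty_iff_eq_empty] at h
      simp [h] at hS
    refine hbound R' hR' fun i hi => lt_of_le_of_lt ?_ hBR'
    have hij : i ≠ j := fun e' => by
      have h1 : ¬ e i = 0 := (mem_filter.mp hi).2
      exact h1 (e' ▸ (mem_filter.mp hj).2)
    have h2 : ∑ l ∈ ({i, j} : Finset ι), c l ^ 2 ≤ ∑ l ∈ s, c l ^ 2 :=
      Finset.sum_le_sum_of_subset_of_nonneg (by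
        intro l hl
        rcases mem_insert.mp hl with rfl | hl
        · exact (hbg _ hi).1
        · rw [mem_singleton.mp hl]; exact (hsm j hj).1) fun l _ _ => sq_nonneg _
    rw [Finset.sum_pair hij] at h2
    have h3 := (hsm j hj).2
    have h4 := hd j (hsm j hj).1
    nlinarith

omit [DecidableEq ι] in
/-- Two units of weight, a norm at least three: one constituent of multiplicity two. -/
theorem sum_sq_eq_four (s : Finset ι) (μ e : ι → ℤ) (hμ : ∀ i ∈ s, 1 ≤ μ i)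
    (he : ∀ i ∈ s, 1 ≤ e i) (hW : ∑ i ∈ s, μ i * e i = 2) (h3 : 3 ≤ ∑ i ∈ s, μ i ^ 2) :
    ∑ i ∈ s, μ i ^ 2 = 4 := by
  have hle : ∑ i ∈ s, μ i ≤ 2 := hW ▸ Finset.sum_le_sum fun i hi =>
    le_mul_of_one_le_right (by linarith [hμ i hi]) (he i hi)
  have h := sum_sq_le_sq_sum_nat s μ fun i hi => by linarith [hμ i hi]
  by_contra hne
  by_cases h2 : ∃ i ∈ s, 2 ≤ μ i
  · obtain ⟨i, hi, h2⟩ := h2
    have := Finset.single_le_sum (f := fun i => μ i ^ 2) (fun j _ => sq_nonneg (μ j)) hi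
    have h4 : (∑ i ∈ s, μ i) ^ 2 ≤ 4 := by
      have : 0 ≤ ∑ i ∈ s, μ i := Finset.sum_nonneg fun i hi => by linarith [hμ i hi]
      nlinarith
    have h5 : (2 : ℤ) ^ 2 ≤ μ i ^ 2 := pow_le_pow_left₀ (by norm_num) h2 2
    exact hne (by linarith)
  · push Not at h2
    have hone : ∑ i ∈ s, μ i ^ 2 = ∑ i ∈ s, μ i := Finset.sum_congr rfl fun i hi => by
      have := hμ i hi
      have := h2 i hi
      rw [show μ i = 1 by omega]
      simp
    omega

/-- The case `p = 3`: the norm is four. -/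
theorem norm_three (s : Finset ι) (μ d c : ι → ℤ) (hμ : ∀ i ∈ s, 1 ≤ μ i)
    (hd : ∀ i ∈ s, 1 ≤ d i) (hc : ∀ i ∈ s, (7 : ℤ) ∣ 2 * d i - c i)
    (hB : ∑ i ∈ s, c i ^ 2 ≤ 5) (hdeg : ∑ i ∈ s, μ i * d i = 6)
    (hA : ∑ i ∈ s, μ i * c i = -2) (h3 : 3 ≤ ∑ i ∈ s, μ i ^ 2) :
    ∑ i ∈ s, μ i ^ 2 = 4 := by
  classical
  choose! e he using hc
  have hcs : ∀ i ∈ s, c i ^ 2 ≤ 5 := fun i hi =>
    le_trans (Finset.single_le_sum (f := fun i => c i ^ 2) (fun j _ => sq_nonneg (c j)) hi) hB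
  have he0 : ∀ i ∈ s, 0 ≤ e i := fun i hi => by
    have := he i hi
    have := hd i hi
    have : c i ≤ 2 := by nlinarith [hcs i hi]
    omega
  have hW : ∑ i ∈ s, μ i * e i = 2 := by
    have h7 : 7 * ∑ i ∈ s, μ i * e i = 2 * ∑ i ∈ s, μ i * d i - ∑ i ∈ s, μ i * c i := by
      rw [Finset.mul_sum, Finset.mul_sum, ← Finset.sum_sub_distrib]
      exact Finset.sum_congr rfl fun i hi => by linear_combination -(μ i) * he i hi
    omega
  obtain ⟨S, T, U, hS, hU, hUW, hsum, hsq, hT, hT'⟩ := split s μ d c e 7 5 2 hμ hd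
    (fun i hi => by linarith [he i hi]) he0 hB (by norm_num) (by norm_num)
  obtain rfl : S = 0 := by
    by_contra h
    have := hT' 1 (by norm_num) (by norm_num) (by omega)
    omega
  refine sum_sq_eq_four s μ e hμ (fun i hi => ?_) hW h3
  by_contra h
  have h0 : e i = 0 := by have := he0 i hi; omega
  have hci : c i = 2 * d i := by
    have := he i hi
    rw [h0] at this
    linarith
  -- a small constituent contributes to the first part
  have hbig : ∑ j ∈ s, μ j ^ 2 ≤ U ^ 2 := by nlinarith [hsq]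
  have hU2 : U ≤ 2 := by omega
  have : U = 2 := by
    by_contra h'
    obtain rfl | rfl : U = 0 ∨ U = 1 := by omega
    · linarith
    · linarith
  subst this
  have hle : ∑ j ∈ s, μ j * e j + μ i * (1 - e i) ≤ ∑ j ∈ s, μ j * max (e j) 1 := by
    rw [← Finset.add_sum_erase s _ hi, ← Finset.add_sum_erase s _ hi]
    have hmax : max (e i) 1 = 1 := by omega
    have : ∑ j ∈ s.erase i, μ j * e j ≤ ∑ j ∈ s.erase i, μ j * max (e j) 1 :=
      Finset.sum_le_sum fun j hj =>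
        mul_le_mul_of_nonneg_left (le_max_left _ _) (by linarith [hμ j (Finset.mem_of_mem_erase hj)])
    rw [hmax, h0]
    linarith
  have hc2 : c i ^ 2 ≥ 4 := by nlinarith [hd i hi]
  have hrest : ∀ j ∈ s, j ≠ i → c j ^ 2 ≤ 1 := fun j hj hji => by
    have h2 : ∑ l ∈ ({i, j} : Finset ι), c l ^ 2 ≤ ∑ l ∈ s, c l ^ 2 :=
      Finset.sum_le_sum_of_subset_of_nonneg (by
        intro l hl
        rcases mem_insert.mp hl with rfl | hl
        · exact hi
        · rw [mem_singleton.mp hl]; exact hj) fun l _ _ => sq_nonneg _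
    rw [Finset.sum_pair (Ne.symm hji)] at h2
    linarith
  have hge : (-(∑ j ∈ s.erase i, μ j * e j) : ℤ) ≤ ∑ j ∈ s.erase i, μ j * c j := by
    rw [← Finset.sum_neg_distrib]
    refine Finset.sum_le_sum fun j hj => ?_
    obtain ⟨hji, hjs⟩ := Finset.mem_erase.mp hj
    have h1 := hrest j hjs hji
    have h2 := he j hjs
    have h3 := he0 j hjs
    have hcj : -(e j) ≤ c j := by
      by_cases h' : e j = 0
      · have := hd j hjs; omega
      · have : -1 ≤ c j := by nlinarith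
        omega
    rw [← mul_neg]
    exact mul_le_mul_of_nonneg_left hcj (by linarith [hμ j hjs])
  rw [← Finset.add_sum_erase s _ hi] at hW hA
  rw [h0, mul_zero, zero_add] at hW
  rw [hW] at hge
  have : 0 < μ i * c i := mul_pos (by linarith [hμ i hi]) (by linarith [hd i hi])
  linarith

/-- No exceptional constituent: the norm is small. -/
theorem bound_zero {k p R S T U X : ℤ} (hk : 7 ≤ p ∧ p + 2 ≤ k ∨ p = 5 ∧ k = 3 ∧ R = 2)
    (hR0 : 0 ≤ R) (hR : R ^ 2 ≤ 2 * p - 2) (hS : 0 ≤ S) (hU : 0 ≤ U) (hU2 : U ≤ 2)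
    (hA : 2 * S + T = -2) (hT : -(U * R) ≤ T) (hX : X ≤ U ^ 2 + S ^ 2) : X < 2 * k + 1 := by
  have hUR : U * R ≤ 2 * R := mul_le_mul_of_nonneg_right hU2 hR0
  have hSR : S ≤ R - 1 := by omega
  have hUsq : U ^ 2 ≤ 2 ^ 2 := pow_le_pow_left₀ hU hU2 2
  have hSsq : S ^ 2 ≤ (R - 1) ^ 2 := pow_le_pow_left₀ hS hSR 2
  rcases hk with ⟨hp, hk⟩ | ⟨rfl, rfl, rfl⟩
  · nlinarith
  · linarith

/-- One unit of exceptional weight: the norm is small. -/
theorem bound_one {k p R S T U X : ℤ} (hk : 7 ≤ p ∧ p + 2 ≤ k ∨ p = 5 ∧ k = 3 ∧ R = 2)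
    (hR0 : 0 ≤ R) (hR : R ^ 2 ≤ 2 * p - 2) (hS : 0 ≤ S) (hU : 0 ≤ U) (hU1 : U ≤ 1)
    (hA : 2 * S + T = -1) (hT : -(U * R) ≤ T) (hX : X ≤ U ^ 2 + S ^ 2) :
    X + k < 2 * k + 1 := by
  have hUR : U * R ≤ R := mul_le_of_le_one_left hR0 hU1
  have hUsq : U ^ 2 ≤ 1 ^ 2 := pow_le_pow_left₀ hU hU1 2
  have hSR : 2 * S ≤ R - 1 := by omega
  rcases hk with ⟨hp, hk⟩ | ⟨rfl, rfl, rfl⟩
  · have hSsq : (2 * S) ^ 2 ≤ (R - 1) ^ 2 := pow_le_pow_left₀ (by linarith) hSR 2
    nlinarith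
  · obtain rfl : S = 0 := by omega
    linarith

/-- The constant value of the exceptional characters is small. -/
theorem exc_const_bound {k p cE ε : ℤ} (hpk : p = 5 ∧ k = 3 ∨ 7 ≤ p ∧ p + 2 ≤ k)
    (hε : ε = 1 ∨ ε = -1) (h : k * cE ^ 2 - 2 * ε * cE ≤ 2 * p - 2) :
    -2 ≤ cE ∧ cE ≤ 2 ∧ (7 ≤ p → -1 ≤ cE ∧ cE ≤ 1) := by
  rcases hpk with ⟨rfl, rfl⟩ | ⟨hp, hk⟩
  · refine ⟨?_, ?_, fun h => absurd h (by norm_num)⟩
    · by_contra hc
      rcases hε with rfl | rfl <;> nlinarith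
    · by_contra hc
      rcases hε with rfl | rfl <;> nlinarith
  · have h4 : cE ^ 2 < 4 := by
      by_contra hc
      rcases hε with rfl | rfl <;>
        nlinarith [mul_le_mul_of_nonneg_right hk (sq_nonneg cE), sq_nonneg (cE - 2),
          sq_nonneg (cE + 2)]
    have h2 : -1 ≤ cE ∧ cE ≤ 1 := ⟨by nlinarith, by nlinarith⟩
    exact ⟨by linarith [h2.1], by linarith [h2.2], fun _ => h2⟩

/-- The value `k cE ^ 2 - 2 ε cE` is non-negative. -/
theorem exc_const_nonneg {k cE ε : ℤ} (hk : 3 ≤ k) (hε : ε = 1 ∨ ε = -1) :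
    0 ≤ k * cE ^ 2 - 2 * ε * cE := by
  rcases le_or_gt cE (-1) with h | h
  · rcases hε with rfl | rfl <;> nlinarith
  rcases le_or_gt 1 cE with h' | h'
  · rcases hε with rfl | rfl <;> nlinarith
  obtain rfl : cE = 0 := by omega
  simp

omit [DecidableEq ι] in
/-- For `p = 5` the exceptional characters have constant value zero. -/
theorem exc_const_five (s : Finset ι) (μ d c e : ι → ℤ) {μE dE cE m : ℤ}
    (hμ : ∀ i ∈ s, 1 ≤ μ i) (hd : ∀ i ∈ s, 1 ≤ d i) (he : ∀ i ∈ s, 2 * d i - c i = m * e i)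
    (hm : m = 31) (hd1 : 1 ≤ dE) (hμ1 : 1 ≤ μE)
    (hbud : ∑ i ∈ s, c i ^ 2 + 3 * cE ^ 2 - 2 * 1 * cE ≤ 2 * 5 - 2)
    (hdeg : ∑ i ∈ s, μ i * d i + μE * 3 * dE = 2 * 3 * 5)
    (hA : ∑ i ∈ s, μ i * c i + μE * (3 * cE - 1) = -2)
    (hW2 : ∑ i ∈ s, μ i * e i + μE = 2) (hne : cE ≠ 0) (h1 : -2 ≤ cE) (h2 : cE ≤ 2)
    (heven : cE = 2 * dE - 2 * 5) : False := by
  have hcase : cE = -2 ∨ cE = 2 := by omega
  have hsq : ∀ i ∈ s, c i ^ 2 ≤ ∑ j ∈ s, c j ^ 2 := fun i hi =>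
    Finset.single_le_sum (f := fun i => c i ^ 2) (fun j _ => sq_nonneg (c j)) hi
  have hpos : 0 < μE * 3 * dE := by positivity
  have hs : ∀ i, i ∉ s := by
    intro i hi
    have h7 : μ i * d i ≤ ∑ j ∈ s, μ j * d j :=
      Finset.single_le_sum (f := fun j => μ j * d j)
        (fun j hj => mul_nonneg (by linarith [hμ j hj]) (by linarith [hd j hj])) hi
    have h8 : d i ≤ μ i * d i := le_mul_of_one_le_left (by linarith [hd i hi]) (hμ i hi)
    have h5 : c i ^ 2 ≤ 0 := by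
      rcases hcase with rfl | rfl <;> linarith [hsq i hi]
    have hc1 : c i = 0 := by
      have := le_antisymm h5 (sq_nonneg (c i))
      simpa using this
    have h6 := he i hi
    subst hm
    have h9 := hd i hi
    omega
  have hemp : s = ∅ := Finset.eq_empty_of_forall_notMem hs
  subst hemp
  simp only [Finset.sum_empty, zero_add] at hdeg hA hW2
  subst hW2
  omega

/-- The case `p ≥ 5`: the exceptional characters have multiplicity two and exhaust the norm. -/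
theorem norm_eq (s : Finset ι) (μ d c : ι → ℤ) (μE dE cE ε p k m : ℤ)
    (hm : m = 2 * k * p + 1) (hpk : p = 5 ∧ k = 3 ∨ 7 ≤ p ∧ p + 2 ≤ k)
    (hε : ε = 1 ∨ ε = -1) (hμ : ∀ i ∈ s, 1 ≤ μ i) (hd : ∀ i ∈ s, 1 ≤ d i) (hμE : 0 ≤ μE)
    (hdE : μE ≠ 0 → 1 ≤ dE) (hc : ∀ i ∈ s, m ∣ 2 * d i - c i)
    (hcE : μE ≠ 0 → m ∣ 2 * dE - 2 * ε * p - cE)
    (hbud : ∑ i ∈ s, c i ^ 2 + k * cE ^ 2 - 2 * ε * cE ≤ 2 * p - 2)
    (hdeg : ∑ i ∈ s, μ i * d i + μE * k * dE = 2 * k * p)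
    (hA : ∑ i ∈ s, μ i * c i + μE * (k * cE - ε) = -2)
    (hnorm : 2 * k + 1 ≤ ∑ i ∈ s, μ i ^ 2 + k * μE ^ 2) :
    ∑ i ∈ s, μ i ^ 2 + k * μE ^ 2 = 4 * k := by
  classical
  have hk3 : 3 ≤ k := by omega
  have hp5 : 5 ≤ p := by omega
  have hcE2 := exc_const_nonneg (cE := cE) hk3 hε
  have hB : ∑ i ∈ s, c i ^ 2 ≤ 2 * p - 2 := by linarith
  have hcs : ∀ i ∈ s, c i ^ 2 ≤ 2 * p - 2 := fun i hi =>
    le_trans (Finset.single_le_sum (f := fun i => c i ^ 2) (fun j _ => sq_nonneg (c j)) hi) hB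
  have hm6 : 6 * p + 1 ≤ m := by rw [hm]; nlinarith
  choose! e he using hc
  have he0 : ∀ i ∈ s, 0 ≤ e i := fun i hi => by
    by_contra h
    have h1 := he i hi
    have h2 : m * e i ≤ -m := by nlinarith
    have : c i ≤ 2 * p := by nlinarith [hcs i hi]
    linarith [hd i hi]
  have hW : m * ∑ i ∈ s, μ i * e i + μE * (2 * k * dE - k * cE + ε) = 2 * m := by
    have h7 : m * ∑ i ∈ s, μ i * e i = 2 * ∑ i ∈ s, μ i * d i - ∑ i ∈ s, μ i * c i := by
      rw [Finset.mul_sum, Finset.mul_sum, ← Finset.sum_sub_distrib]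
      exact Finset.sum_congr rfl fun i hi => by linear_combination -(μ i) * he i hi
    rw [hm] at h7 ⊢
    linear_combination h7 + 2 * hdeg - hA
  have hW0 : 0 ≤ ∑ i ∈ s, μ i * e i :=
    Finset.sum_nonneg fun i hi => mul_nonneg (by linarith [hμ i hi]) (he0 i hi)
  -- the bound on the non-exceptional part
  obtain ⟨R, hR0, hBR, hR, hR5⟩ : ∃ R : ℤ, 0 ≤ R ∧ 2 * p - 2 < (R + 1) ^ 2 ∧ R ^ 2 ≤ 2 * p - 2 ∧
      (p = 5 → R = 2) := by
    obtain ⟨q, rfl⟩ : ∃ q : ℕ, p = q := ⟨p.toNat, by omega⟩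
    refine ⟨(Nat.sqrt (2 * q - 2) : ℕ), by positivity, ?_, ?_, fun h => ?_⟩
    · have h : ((2 * q - 2 : ℕ) : ℤ) < ((Nat.sqrt (2 * q - 2) + 1) ^ 2 : ℕ) := by
        exact_mod_cast Nat.lt_succ_sqrt' (2 * q - 2)
      push_cast [show 2 ≤ 2 * q by omega] at h
      linarith
    · have h : ((Nat.sqrt (2 * q - 2) ^ 2 : ℕ) : ℤ) ≤ ((2 * q - 2 : ℕ) : ℤ) := by
        exact_mod_cast Nat.sqrt_le' (2 * q - 2)
      push_cast [show 2 ≤ 2 * q by omega] at h
      linarith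
    · obtain rfl : q = 5 := by exact_mod_cast h
      rw [show Nat.sqrt (2 * 5 - 2) = 2 from Nat.eq_sqrt'.mpr ⟨by norm_num, by norm_num⟩ |>.symm]
      norm_num
  obtain ⟨S, T, U, hS, hU, hUW, hsum, hsq, hT, -⟩ := split s μ d c e m (2 * p - 2) R hμ hd
    (fun i hi => by linarith [he i hi]) he0 hB hR0 hBR
  by_cases hE : μE = 0
  · subst hE
    have hW2 : ∑ i ∈ s, μ i * e i = 2 := by
      have : m ≠ 0 := by linarith
      apply mul_left_cancel₀ this
      linarith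
    exfalso
    have h := bound_zero (k := k) (p := p) (R := R) (X := ∑ i ∈ s, μ i ^ 2)
      (hpk.symm.imp id fun h => ⟨h.1, h.2, hR5 h.1⟩) hR0 hR hS hU (by linarith) (by linarith)
      hT.2 hsq
    linarith
  have hμ1 : 1 ≤ μE := by omega
  have hd1 := hdE hE
  have hdeg' : μE * k * dE ≤ 2 * k * p := by
    have : 0 ≤ ∑ i ∈ s, μ i * d i :=
      Finset.sum_nonneg fun i hi => mul_nonneg (by linarith [hμ i hi]) (by linarith [hd i hi])
    linarith
  have hdE2 : μE * dE ≤ 2 * p := le_of_mul_le_mul_left (by linarith) (by linarith : 0 < k)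
  have hdE3 : dE ≤ 2 * p := le_trans (le_mul_of_one_le_left (by linarith) hμ1) hdE2
  have hsq0 : 0 ≤ ∑ i ∈ s, c i ^ 2 := Finset.sum_nonneg fun i _ => sq_nonneg _
  have hcE3 := exc_const_bound hpk hε (by linarith : k * cE ^ 2 - 2 * ε * cE ≤ 2 * p - 2)
  obtain ⟨g, hg⟩ := hcE hE
  have hcoef : μE * (2 * k * dE - k * cE + ε) = μE * (m * (k * g + ε)) := by
    rw [hm] at hg ⊢
    linear_combination μE * k * hg
  rw [hcoef] at hW
  have hW2 : ∑ i ∈ s, μ i * e i + μE * (k * g + ε) = 2 := by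
    have : m ≠ 0 := by linarith
    apply mul_left_cancel₀ this
    linear_combination hW
  have hg0 : g ≤ 0 := by
    by_contra h
    have h1 : k ≤ k * g := le_mul_of_one_le_right (by linarith) (by omega)
    have h2 : μE * (k - 1) ≤ μE * (k * g + ε) := by
      refine mul_le_mul_of_nonneg_left ?_ hμE
      rcases hε with rfl | rfl <;> linarith
    have h3 : k - 1 ≤ μE * (k - 1) := le_mul_of_one_le_left (by linarith) hμ1
    obtain ⟨rfl, rfl⟩ : p = 5 ∧ k = 3 := by omega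
    obtain rfl : μE = 1 := by omega
    obtain rfl : g = 1 := by omega
    obtain rfl : ε = -1 := by rcases hε with rfl | rfl <;> omega
    have hU0 : U = 0 := by omega
    subst hU0
    obtain rfl : S = 0 := by omega
    linarith
  have hg1 : g = 0 := by
    by_contra h
    have h1 : m * g ≤ m * (-1) := mul_le_mul_of_nonneg_left (by omega) (by linarith)
    rcases hε with rfl | rfl <;> omega
  subst hg1
  obtain rfl : ε = 1 := by
    rcases hε with rfl | rfl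
    · rfl
    · exfalso; omega
  rw [mul_zero, zero_add, mul_one] at hW2
  have hcE0 : cE = 0 := by
    rcases hpk with ⟨rfl, rfl⟩ | ⟨hp, hk⟩
    · by_contra hne
      exact exc_const_five s μ d c e (m := m) hμ hd (fun i hi => he i hi) (by omega) hd1 hμ1
        hbud hdeg hA hW2 hne hcE3.1 hcE3.2.1 (by linarith)
    · have := hcE3.2.2 hp
      omega
  subst hcE0
  have hA' : 2 * S + T = μE - 2 := by linarith
  obtain rfl | rfl : μE = 1 ∨ μE = 2 := by omega
  · exfalso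
    have h := bound_one (k := k) (p := p) (R := R) (X := ∑ i ∈ s, μ i ^ 2)
      (hpk.symm.imp id fun h => ⟨h.1, h.2, hR5 h.1⟩) hR0 hR hS hU (by linarith) (by linarith)
      hT.2 hsq
    linarith
  · obtain rfl : U = 0 := by linarith
    obtain rfl : S = 0 := by omega
    have h0 : 0 ≤ ∑ i ∈ s, μ i ^ 2 := Finset.sum_nonneg fun i _ => sq_nonneg _
    linarith

end Cfsg.Agent.H70.SE.FieldArith
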