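import Cfsg.Agent.H70.SE.Setup
import Cfsg.Agent.H81.AlgInt

/-!
# The involution character: all constituents have degree `n` times their value at an involution

Steps 4a and 4b of notes/helper70_bender_H1.md.
-/

namespace Cfsg.Agent.H70.SE

open scoped ComplexConjugate
open Cfsg Cfsg.Agent.CharBasic Cfsg.Agent.CharInduce MulAction

universe u v

variable {G : Type u} [Group G]

theorem conj_pow_two_orderOf {g i : G} (hi : orderOf i = 2) : orderOf (g * i * g⁻¹) = 2 := by
  rw [← MulAut.conj_apply, MulEquiv.orderOf_eq]; exact hi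

/-- Number of orbits as the number of distinct orbits. -/
theorem card_quotient_eq_ncard (K : Type*) [Group K] (Y : Type*) [MulAction K Y] :
    Nat.card (orbitRel.Quotient K Y) = (orbit K '' (Set.univ : Set Y)).ncard := by
  rw [Set.image_univ]
  refine Nat.card_congr (Equiv.ofBijective
    (fun q : orbitRel.Quotient K Y => (⟨q.orbit, ?_⟩ : Set.range (orbit K : Y → Set Y))) ⟨?_, ?_⟩)
  · induction q using Quotient.inductionOn' with | h y => exact ⟨y, (orbitRel.Quotient.orbit_mk y).symm⟩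
  · intro q q' e
    exact orbitRel.Quotient.orbit_injective (congrArg Subtype.val e)
  · rintro ⟨_, y, rfl⟩
    exact ⟨Quotient.mk'' y, Subtype.ext (orbitRel.Quotient.orbit_mk y)⟩

/-- Two orbits. -/
theorem card_quotient_eq_two {K : Type*} [Group K] {Y : Type*} [MulAction K Y] (y₁ y₂ : Y)
    (hne : y₂ ∉ orbit K y₁) (hall : ∀ y, y ∈ orbit K y₁ ∨ y ∈ orbit K y₂) :
    Nat.card (orbitRel.Quotient K Y) = 2 := by
  rw [card_quotient_eq_ncard, Set.ncard_eq_two]
  refine ⟨orbit K y₁, orbit K y₂, fun e => hne (e ▸ mem_orbit_self y₂), ?_⟩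
  ext O
  simp only [Set.mem_image, Set.mem_univ, true_and, Set.mem_insert_iff, Set.mem_singleton_iff]
  constructor
  · rintro ⟨y, rfl⟩
    exact (hall y).imp orbit_eq_iff.2 orbit_eq_iff.2
  · rintro (rfl | rfl) <;> exact ⟨_, rfl⟩

variable [Fintype G] {Ω : Type v} [MulAction G Ω]

/-- The permutation character on the involutions minus the one on the points. -/
noncomputable def phi (G : Type u) [Group G] (Ω : Type v) [MulAction G Ω] : G → ℂ :=
  permChar G (Inv G) - permChar G Ω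

namespace FieldLine

variable {p : ℕ} {a b : Ω} {t f u : G} {A : Subgroup G} (h : FieldLine p a b t f u A)

include h

theorem card_inv_at (z : Ω) : Nat.card {i : G // orderOf i = 2 ∧ i • z = z} = 2 ^ p - 1 := by
  obtain ⟨g, hg⟩ := h.pretransitive_points.exists_smul_eq a z
  rw [← h.card_inv]
  refine Nat.card_congr (Equiv.symm ((MulAut.conj g).toEquiv.subtypeEquiv fun i => ?_))
  show orderOf i = 2 ∧ i • a = a ↔ orderOf (g * i * g⁻¹) = 2 ∧ (g * i * g⁻¹) • z = z
  rw [mul_smul, mul_smul, show g⁻¹ • z = a from inv_smul_eq_iff.2 hg.symm]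
  refine and_congr ⟨conj_pow_two_orderOf, fun hi => ?_⟩ ⟨fun e => by rw [e, hg], fun e => ?_⟩
  · simpa [mul_assoc] using conj_pow_two_orderOf (g := g⁻¹) hi
  · exact MulAction.injective g (e.trans hg.symm)

variable [Finite Ω]

theorem card_invols : Nat.card (Inv G) = Nat.card Ω * (2 ^ p - 1) := by
  classical
  haveI := Fintype.ofFinite Ω
  have e : (Σ z : Ω, {i : G // orderOf i = 2 ∧ i • z = z}) ≃ Inv G :=
    Equiv.ofBijective (fun x => ⟨x.2.1, x.2.2.1⟩) ⟨fun ⟨z, i, hi⟩ ⟨z', i', hi'⟩ e => by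
      obtain rfl : i = i' := congrArg Subtype.val e
      obtain rfl : z = z' := h.fix_unique hi.1 hi.2 hi'.2
      rfl, fun ⟨i, hi⟩ => by
      obtain ⟨z, hz, -⟩ := h.one i hi
      exact ⟨⟨z, i, hi, hz⟩, rfl⟩⟩
  rw [← Nat.card_congr e, Nat.card_sigma, Finset.sum_congr rfl fun z _ => h.card_inv_at z,
    Finset.sum_const, Finset.card_univ, smul_eq_mul, Nat.card_eq_fintype_card]

omit [Finite Ω] in
theorem fixedBy_inv_t : Nat.card (fixedBy (Inv G) t) = 2 ^ p - 1 := by
  rw [← h.card_inv]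
  refine Nat.card_congr
    ⟨fun i => ⟨i.1.1, i.1.2, h.fix_of_commute i.1.2 (mem_fixedBy_inv.1 i.2).symm⟩,
      fun i => ⟨⟨i.1, i.2.1⟩, mem_fixedBy_inv.2 (h.com t i h.t_inv i.2.1 h.t_fix i.2.2)⟩,
      fun i => rfl, fun i => rfl⟩

omit [Finite Ω] in
theorem phi_t : phi G Ω t = ((2 ^ p - 1 : ℕ) : ℂ) - 1 := by
  show ((Nat.card (fixedBy (Inv G) t) : ℂ)) - (Nat.card (fixedBy Ω t) : ℂ) = _
  rw [h.fixedBy_inv_t, show Nat.card (fixedBy Ω t) = 1 from
    Nat.card_eq_one_iff_unique.2 ⟨⟨fun x y => Subtype.ext (h.fix_unique h.t_inv x.2 y.2)⟩,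
      ⟨⟨a, h.t_fix⟩⟩⟩]
  simp

omit [Finite Ω] in
theorem phi_torus {α : G} (hα : α ∈ A) (hne : α ≠ 1) : phi G Ω α = -2 := by
  classical
  show ((Nat.card (fixedBy (Inv G) α) : ℂ)) - (Nat.card (fixedBy Ω α) : ℂ) = _
  haveI : IsEmpty (fixedBy (Inv G) α) :=
    ⟨fun i => hne (h.eq_one_of_commute hα i.1.2 (mem_fixedBy_inv.1 i.2).symm)⟩
  rw [Nat.card_of_isEmpty, show fixedBy Ω α = {a, b} from Set.ext fun z => ⟨h.fixedA α hα hne z, by
    rintro (rfl | rfl)
    · exact (h.fixA α hα).1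
    · exact (h.fixA α hα).2⟩, Nat.card_coe_set_eq, Set.ncard_pair h.ne]
  simp

theorem phi_one : phi G Ω 1 = (Nat.card Ω : ℂ) * (((2 ^ p - 1 : ℕ) : ℂ) - 1) := by
  show ((Nat.card (fixedBy (Inv G) (1 : G)) : ℂ)) - (Nat.card (fixedBy Ω (1 : G)) : ℂ) = _
  rw [fixedBy_one_eq_univ, fixedBy_one_eq_univ, Nat.card_univ, Nat.card_univ, h.card_invols]
  push_cast; ring

omit [Finite Ω] in
/-- An involution swapping a pair, moved to the given one. -/
theorem exists_to_pair {z : Ω} (hz : z ≠ a) :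
    ∃ g : G, g • z = a ∧ g • (t • z) = b ∧ orderOf (g * t * g⁻¹) = 2 ∧
      (g * t * g⁻¹) • a = b ∧ (g * t * g⁻¹) • b = a := by
  obtain ⟨g, h1, h2⟩ := h.twoTrans z (t • z) a b (h.t_moves hz).symm h.ne
  have e1 : g⁻¹ • a = z := inv_smul_eq_iff.2 h1.symm
  have e2 : g⁻¹ • b = t • z := inv_smul_eq_iff.2 h2.symm
  exact ⟨g, h1, h2, conj_pow_two_orderOf h.t_inv, by rw [mul_smul, mul_smul, e1, h2],
    by rw [mul_smul, mul_smul, e2, smul_smul t t, h.t_mul_t, one_smul, h1]⟩

omit [Finite Ω] in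
/-- The product of two involutions swapping the same pair lies in the torus. -/
theorem mul_mem_of_swap {g : G} {z : Ω} (h1 : g • z = a) (h2 : g • (t • z) = b)
    (hs : orderOf (g * t * g⁻¹) = 2) (hsa : (g * t * g⁻¹) • a = b)
    (hsb : (g * t * g⁻¹) • b = a) {i : G} (hi : orderOf i = 2) (hiz : i • z = t • z) :
    g * (t * i) * g⁻¹ ∈ A := by
  have hii : i * i = 1 := by rw [← sq, ← hi, pow_orderOf_eq_one]
  have hiz' : i • (t • z) = z := by rw [← hiz, smul_smul, hii, one_smul]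
  refine (h.swapper hs hsa hsb).2 _ ?_ ?_ ?_
  · rw [mul_smul, mul_smul, inv_smul_eq_iff.2 h1.symm, mul_smul, hiz, smul_smul t t, h.t_mul_t,
      one_smul, h1]
  · rw [mul_smul, mul_smul, inv_smul_eq_iff.2 h2.symm, mul_smul, hiz', h2]
  · have hti : t⁻¹ = t := inv_eq_of_mul_eq_one_right h.t_mul_t
    have hi' : i⁻¹ = i := inv_eq_of_mul_eq_one_right hii
    calc g * t * g⁻¹ * (g * (t * i) * g⁻¹) * (g * t * g⁻¹)⁻¹
        = g * ((t * t) * i * t⁻¹) * g⁻¹ := by group
      _ = g * (i * t) * g⁻¹ := by rw [h.t_mul_t, one_mul, hti]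
      _ = g * (i⁻¹ * t⁻¹) * g⁻¹ := by rw [hti, hi']
      _ = _ := by group

omit [Finite Ω] in
theorem card_swap (z : Ω) :
    Nat.card {i : Inv G // (t * (i : G)) • z = z} = 2 ^ p - 1 := by
  by_cases hz : z = a
  · subst hz
    rw [← h.card_inv]
    refine Nat.card_congr ((Equiv.subtypeEquivRight fun i => ?_).trans
      (Equiv.subtypeSubtypeEquivSubtypeInter (fun i : G => orderOf i = 2) fun i => i • z = z))
    rw [mul_smul, ← eq_inv_smul_iff, show t⁻¹ • z = z from inv_smul_eq_iff.2 h.t_fix.symm]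
  obtain ⟨g, h1, h2, hs, hsa, hsb⟩ := h.exists_to_pair hz
  have key : ∀ α ∈ A, orderOf (g⁻¹ * (g * t * g⁻¹ * α) * g) = 2 ∧
      (g⁻¹ * (g * t * g⁻¹ * α) * g) • z = t • z := by
    intro α hα
    refine ⟨?_, ?_⟩
    · have hinv := (h.swapper hs hsa hsb).1 α hα
      have hss : g * t * g⁻¹ * (g * t * g⁻¹) = 1 := by rw [← sq, ← hs, pow_orderOf_eq_one]
      have hsinv : (g * t * g⁻¹)⁻¹ = g * t * g⁻¹ := inv_eq_of_mul_eq_one_right hss
      have hsq : (g * t * g⁻¹ * α) ^ 2 = 1 := by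
        rw [hsinv] at hinv
        calc (g * t * g⁻¹ * α) ^ 2 = (g * t * g⁻¹ * α * (g * t * g⁻¹)) * α := by rw [sq]; group
          _ = 1 := by rw [hinv, inv_mul_cancel]
      have h1' : g * t * g⁻¹ * α ≠ 1 := fun e => h.inv_notMem hs (by
        rw [eq_inv_of_mul_eq_one_left e]; exact A.inv_mem hα)
      have : orderOf (g * t * g⁻¹ * α) = 2 := orderOf_eq_prime hsq h1'
      simpa [mul_assoc] using conj_pow_two_orderOf (g := g⁻¹) this
    · rw [mul_smul, mul_smul, h1, mul_smul, (h.fixA α hα).1, hsa, inv_smul_eq_iff, h2]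
  rw [← h.cardA]
  refine (Nat.card_eq_of_bijective (fun α : A =>
    (⟨⟨_, (key α α.2).1⟩, by rw [mul_smul, (key α α.2).2, smul_smul, h.t_mul_t, one_smul]⟩ :
      {i : Inv G // (t * (i : G)) • z = z})) ⟨fun α β e => ?_, ?_⟩).symm
  · have e' := congrArg (fun x : {i : Inv G // (t * (i : G)) • z = z} => (x.1 : G)) e
    simpa [mul_assoc] using e'
  · rintro ⟨⟨i, hi⟩, hiz⟩
    have hiz' : i • z = t • z := by
      rw [mul_smul] at hiz
      conv_rhs => rw [← hiz, smul_smul, h.t_mul_t, one_smul]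
    refine ⟨⟨_, h.mul_mem_of_swap h1 h2 hs hsa hsb hi hiz'⟩, Subtype.ext (Subtype.ext ?_)⟩
    show g⁻¹ * (g * t * g⁻¹ * (g * (t * i) * g⁻¹)) * g = i
    calc g⁻¹ * (g * t * g⁻¹ * (g * (t * i) * g⁻¹)) * g = t * t * i := by group
      _ = i := by rw [h.t_mul_t, one_mul]

theorem sum_phi [Fintype (Inv G)] : ∑ i : Inv G, phi G Ω (t * i) =
    ((2 ^ p - 1 : ℕ) : ℂ) * (((2 ^ p - 1 : ℕ) : ℂ) - 1) := by
  classical
  haveI := Fintype.ofFinite Ω
  have hP : ∑ i : Inv G, Nat.card (fixedBy Ω (t * (i : G))) = Nat.card Ω * (2 ^ p - 1) := by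
    calc ∑ i : Inv G, Nat.card (fixedBy Ω (t * (i : G)))
        = ∑ z : Ω, Nat.card {i : Inv G // (t * (i : G)) • z = z} := by
          show ∑ i : Inv G, Nat.card {z : Ω // (t * (i : G)) • z = z} = _
          simp only [Nat.card_eq_fintype_card, Fintype.card_subtype, Finset.card_filter]
          exact Finset.sum_comm
      _ = _ := by
        rw [Finset.sum_congr rfl fun z _ => h.card_swap z, Finset.sum_const, Finset.card_univ,
          smul_eq_mul, Nat.card_eq_fintype_card]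
  have hQ : ∑ i : Inv G, Nat.card (fixedBy (Inv G) (t * (i : G))) + (2 ^ p - 1) =
      (2 ^ p - 1) * (2 ^ p - 1) + Nat.card Ω * (2 ^ p - 1) := by
    have h0 : ∑ i : Inv G, Nat.card (fixedBy (Inv G) (t * (i : G))) =
        ∑ j : Inv G, Nat.card {i : Inv G // t * (i : G) * j = j * (t * i)} := by
      rw [Finset.sum_congr rfl fun (i : Inv G) _ => Nat.card_congr (Equiv.subtypeEquivRight
        (q := fun j : Inv G => t * (i : G) * j = j * (t * i)) fun j => mem_fixedBy_inv)]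
      simp only [Nat.card_eq_fintype_card, Fintype.card_subtype, Finset.card_filter]
      exact Finset.sum_comm
    have hone : ∀ j : Inv G, Nat.card {i : Inv G // t * (i : G) * j = j * (t * i)} =
        if (j : G) • a = a then 2 ^ p - 1 else 1 := by
      intro j
      split_ifs with hj
      · rw [← h.card_inv]
        refine Nat.card_congr ((Equiv.subtypeEquivRight fun i => ?_).trans
          (Equiv.subtypeSubtypeEquivSubtypeInter (fun i : G => orderOf i = 2) fun i => i • a = a))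
        have hjt : (j : G) * t = t * j := h.com _ _ j.2 h.t_inv hj h.t_fix
        rw [← mul_assoc, hjt, mul_assoc, mul_assoc, mul_right_inj]
        refine ⟨fun e => ?_, fun e => h.com _ _ i.2 j.2 e hj⟩
        refine h.fix_unique j.2 ?_ hj
        rw [smul_smul, ← e, mul_smul, hj]
      · refine Nat.card_eq_one_iff_unique.2 ⟨⟨?_⟩,
          ⟨⟨⟨t, h.t_inv⟩, by simp [h.t_mul_t]⟩⟩⟩
        suffices ∀ i : Inv G, t * (i : G) * j = j * (t * i) → (i : G) = t from
          fun x y => Subtype.ext (Subtype.ext ((this _ x.2).trans (this _ y.2).symm))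
        intro i hc
        obtain ⟨z, hz, -⟩ := h.one j j.2
        have hza : z ≠ a := fun e => hj (e ▸ hz)
        have hgz : (t * (i : G)) • z = z := by
          refine h.fix_unique j.2 ?_ hz
          rw [smul_smul, ← hc, mul_smul _ (j : G), hz]
        have hiz : (i : G) • z = t • z := by
          rw [mul_smul] at hgz
          conv_rhs => rw [← hgz, smul_smul, h.t_mul_t, one_smul]
        obtain ⟨g, h1, h2, hs, hsa, hsb⟩ := h.exists_to_pair hza
        have hA := h.mul_mem_of_swap h1 h2 hs hsa hsb i.2 hiz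
        have h3 := h.eq_one_of_commute hA (conj_pow_two_orderOf (g := g) j.2) (by
          calc g * (j : G) * g⁻¹ * (g * (t * i) * g⁻¹) = g * (j * (t * i)) * g⁻¹ := by group
            _ = _ := by rw [← hc]; group)
        rw [mul_inv_eq_one, mul_eq_left] at h3
        calc (i : G) = t * (t * i) := by rw [← mul_assoc, h.t_mul_t, one_mul]
          _ = t := by rw [h3, mul_one]
    have hcount : Fintype.card {j : Inv G // (j : G) • a = a} = 2 ^ p - 1 := by
      rw [← Nat.card_eq_fintype_card, ← h.card_inv]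
      exact Nat.card_congr (Equiv.subtypeSubtypeEquivSubtypeInter (fun i : G => orderOf i = 2)
        fun i => i • a = a)
    have htot := h.card_invols
    rw [Nat.card_eq_fintype_card, ← Finset.card_univ,
      ← Finset.card_filter_add_card_filter_not (fun j : Inv G => (j : G) • a = a)] at htot
    rw [Fintype.card_subtype] at hcount
    rw [h0, Finset.sum_congr rfl fun j _ => hone j, Finset.sum_ite, Finset.sum_const,
      Finset.sum_const, smul_eq_mul, smul_eq_mul, mul_one, hcount]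
    rw [hcount] at htot
    linarith
  have h1 : ∑ i : Inv G, phi G Ω (t * i) =
      ((∑ i : Inv G, Nat.card (fixedBy (Inv G) (t * (i : G))) : ℕ) : ℂ) -
        ((∑ i : Inv G, Nat.card (fixedBy Ω (t * (i : G))) : ℕ) : ℂ) := by
    push_cast
    rw [← Finset.sum_sub_distrib]
    rfl
  rw [h1, hP]
  have h2 := congrArg (Nat.cast : ℕ → ℂ) hQ
  push_cast at h2 ⊢
  linear_combination h2

theorem isCharacter_pi_inv : IsCharacter G (permChar G (Inv G)) := by
  haveI := h.pretransitive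
  exact isCharacter_permChar (Inv G) ⟨t, h.t_inv⟩

theorem isCharacter_pi : IsCharacter G (permChar G Ω) := by
  haveI := h.pretransitive_points
  exact isCharacter_permChar Ω a

theorem phi_class : IsClassFunction G (phi G Ω) := fun g x => by
  simp only [phi, Pi.sub_apply]
  rw [CharBasic.IsChar.isClassFunction h.isCharacter_pi_inv g x,
    CharBasic.IsChar.isClassFunction h.isCharacter_pi g x]

/-- The multiplicities are natural numbers. -/
theorem exists_mult (χ : IrrCharacter G) :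
    ∃ μ : ℕ, classInner (phi G Ω) (χ : G → ℂ) = μ := by
  haveI := h.pretransitive
  haveI := h.pretransitive_points
  haveI := Fintype.ofFinite (stabilizer G (⟨t, h.t_inv⟩ : Inv G))
  haveI := Fintype.ofFinite (stabilizer G a)
  have hχ := CharBasic.IsIrr.isCharacter χ.2
  have hle : stabilizer G (⟨t, h.t_inv⟩ : Inv G) ≤ stabilizer G a := by
    intro c hc
    rw [mem_stabilizer_iff, Subtype.ext_iff, inv_smul_coe, mul_inv_eq_iff_eq_mul] at hc
    refine h.fix_unique h.t_inv ?_ h.t_fix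
    change c * t = t * c at hc
    rw [smul_smul, ← hc, mul_smul, h.t_fix]
  obtain ⟨c, hc⟩ := classInner_isChar_nat
    (IsChar.res hχ (stabilizer G (⟨t, h.t_inv⟩ : Inv G))) IsChar.one
  obtain ⟨d, hd⟩ := classInner_isChar_nat (IsChar.res hχ (stabilizer G a)) IsChar.one
  have hdc := invariants_mono hχ hle hc hd
  refine ⟨c - d, ?_⟩
  rw [← conj_classInner, phi, classInner_sub_right,
    classInner_permChar_left (Inv G) ⟨t, h.t_inv⟩ (CharBasic.IsChar.isClassFunction hχ),
    classInner_permChar_left Ω a (CharBasic.IsChar.isClassFunction hχ), hc, hd,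
    Nat.cast_sub hdc, map_sub, map_natCast, map_natCast]

/-- Every constituent has degree `n` times its value at `t`. -/
theorem degree {χ : IrrCharacter G} (hne : classInner (phi G Ω) (χ : G → ℂ) ≠ 0) :
    ∃ d : ℤ, 1 ≤ d ∧ (χ : G → ℂ) 1 = ((Nat.card Ω * d : ℤ) : ℂ) ∧ (χ : G → ℂ) t = (d : ℂ) := by
  classical
  haveI := h.pretransitive
  haveI := Fintype.ofFinite (Inv G)
  choose μ hμ using fun χ => h.exists_mult χ
  choose deg hdpos hdeg using fun χ : IrrCharacter G => CharBasic.IsIrr.exists_degree χ.2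
  have hreal : ∀ χ : IrrCharacter G, (χ : G → ℂ) t = (((χ : G → ℂ) t).re : ℂ) := fun χ => by
    refine (Complex.conj_eq_iff_re.1 ?_).symm
    rw [← CharBasic.IsChar.inv_apply (CharBasic.IsIrr.isCharacter χ.2),
      inv_eq_of_mul_eq_one_right h.t_mul_t]
  let x : IrrCharacter G → ℝ := fun χ => ((χ : G → ℂ) t).re
  have hexp : ∀ g, phi G Ω g = ∑ χ : IrrCharacter G, (μ χ : ℂ) * (χ : G → ℂ) g := fun g => by
    conv_lhs => rw [classFunction_expansion h.phi_class]
    simp [Finset.sum_apply, hμ]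
  have n0 : 0 < Nat.card Ω := by have := h.card_points.2; omega
  have m1 : (1 : ℝ) ≤ ((2 ^ p - 1 : ℕ) : ℝ) := by
    have := h.eight_le
    exact_mod_cast (show 1 ≤ 2 ^ p - 1 by omega)
  have s1 : ∑ χ, (μ χ : ℝ) * deg χ = (Nat.card Ω : ℝ) * (((2 ^ p - 1 : ℕ) : ℝ) - 1) := by
    apply Complex.ofReal_injective
    push_cast
    rw [← h.phi_one, hexp 1]
    simp [hdeg]
  have st : ∑ χ, (μ χ : ℝ) * x χ = ((2 ^ p - 1 : ℕ) : ℝ) - 1 := by
    apply Complex.ofReal_injective
    push_cast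
    rw [← h.phi_t, hexp t]
    exact Finset.sum_congr rfl fun χ _ => by rw [← hreal χ]
  have sq' : ∑ χ, (μ χ : ℝ) * (x χ ^ 2 / deg χ) =
      (((2 ^ p - 1 : ℕ) : ℝ) - 1) / Nat.card Ω := by
    have hG : (Nat.card G : ℂ) = (Nat.card (stabilizer G (⟨t, h.t_inv⟩ : Inv G)) : ℂ) *
        ((Nat.card Ω : ℂ) * ((2 ^ p - 1 : ℕ) : ℂ)) := by
      rw [← Nat.cast_mul (Nat.card Ω), ← h.card_invols,
        ← index_stabilizer_of_transitive G (⟨t, h.t_inv⟩ : Inv G), ← Nat.cast_mul,
        Subgroup.card_mul_index]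
    have hs := sum_conj_eq (⟨t, h.t_inv⟩ : Inv G) (fun g => phi G Ω (t * g))
    simp only at hs
    rw [h.sum_phi] at hs
    simp only [hexp, Finset.sum_comm (γ := G)] at hs
    have hterm : ∀ χ : IrrCharacter G, ∑ c : G, (μ χ : ℂ) * (χ : G → ℂ) (t * (c * t * c⁻¹)) =
        (Nat.card G : ℂ) * ((μ χ : ℂ) * ((x χ : ℂ) ^ 2 / (deg χ : ℂ))) := by
      intro χ
      have h1 := H80.sum_conj_mul χ t t
      rw [hdeg, hreal χ] at h1
      have hd0 : (deg χ : ℂ) ≠ 0 := Nat.cast_ne_zero.2 (hdpos χ).ne'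
      rw [← Finset.mul_sum]
      field_simp
      linear_combination (μ χ : ℂ) * h1
    rw [Finset.sum_congr rfl fun χ _ => hterm χ, ← Finset.mul_sum, hG, mul_assoc] at hs
    have hs' := mul_left_cancel₀ (card_ne_zero_complex _) hs
    apply Complex.ofReal_injective
    push_cast
    rw [eq_div_iff (by exact_mod_cast n0.ne')]
    have hm0 : ((2 ^ p - 1 : ℕ) : ℂ) ≠ 0 := by
      have := h.eight_le
      exact Nat.cast_ne_zero.2 (show 2 ^ p - 1 ≠ 0 by omega)
    apply mul_left_cancel₀ hm0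
    linear_combination hs'
  have hzero : ∑ χ, (μ χ : ℝ) * (((deg χ : ℝ) - (Nat.card Ω : ℝ) * x χ) ^ 2 / deg χ) = 0 := by
    have e : ∀ χ, (μ χ : ℝ) * (((deg χ : ℝ) - (Nat.card Ω : ℝ) * x χ) ^ 2 / deg χ) =
        (μ χ : ℝ) * deg χ - 2 * (Nat.card Ω : ℝ) * ((μ χ : ℝ) * x χ) +
          (Nat.card Ω : ℝ) ^ 2 * ((μ χ : ℝ) * (x χ ^ 2 / deg χ)) := fun χ => by
      have : (deg χ : ℝ) ≠ 0 := Nat.cast_ne_zero.2 (hdpos χ).ne'
      field_simp
      ring
    simp only [e, Finset.sum_add_distrib, Finset.sum_sub_distrib, ← Finset.mul_sum, s1, st, sq']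
    field_simp
    ring
  have hχ := (Finset.sum_eq_zero_iff_of_nonneg fun χ _ =>
    mul_nonneg (Nat.cast_nonneg _) (div_nonneg (sq_nonneg _) (Nat.cast_nonneg _))).1 hzero χ
      (Finset.mem_univ _)
  rw [mul_eq_zero, div_eq_zero_iff, sq_eq_zero_iff, Nat.cast_eq_zero, Nat.cast_eq_zero] at hχ
  have hμ0 : μ χ ≠ 0 := fun e => hne (by rw [hμ, e, Nat.cast_zero])
  have hx : (deg χ : ℝ) = (Nat.card Ω : ℝ) * x χ := by
    have := hdpos χ
    rcases hχ with h1 | h1 | h1
    · exact absurd h1 hμ0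
    · linarith
    · omega
  have hxt : (χ : G → ℂ) t = (((deg χ : ℚ) / (Nat.card Ω : ℚ) : ℚ) : ℂ) := by
    rw [hreal χ]
    have h1 : ((deg χ : ℝ) : ℂ) = (((Nat.card Ω : ℝ) * x χ : ℝ) : ℂ) := by rw [hx]
    push_cast at h1 ⊢
    rw [h1, mul_div_cancel_left₀ _ (Nat.cast_ne_zero.2 n0.ne')]
  obtain ⟨d, hd⟩ := H81.int_of_isIntegral_ratCast
    (hxt ▸ CharBasic.IsChar.isIntegral (CharBasic.IsIrr.isCharacter χ.2) t)
  rw [eq_div_iff (by exact_mod_cast n0.ne')] at hd
  have hd' : (deg χ : ℤ) = d * Nat.card Ω := by exact_mod_cast hd.symm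
  refine ⟨d, ?_, ?_, ?_⟩
  · by_contra hlt
    have := hdpos χ
    nlinarith
  · rw [hdeg, mul_comm, ← hd']; simp
  · rw [hxt]
    have : ((deg χ : ℚ) / (Nat.card Ω : ℚ) : ℚ) = (d : ℚ) := by
      rw [div_eq_iff (by exact_mod_cast n0.ne')]; exact hd.symm
    rw [this]; simp

end FieldLine

end Cfsg.Agent.H70.SE
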