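import Cfsg.Agent.H70.SE.InvPerm
import Mathlib.Data.Set.Card
import Mathlib.GroupTheory.PGroup

/-!
# The orbit counts and the norm of the involution character
-/

namespace Cfsg.Agent.H70.SE

open scoped ComplexConjugate
open Cfsg Cfsg.Agent.CharBasic Cfsg.Agent.CharInduce MulAction

universe u v

/-- Two maps with the same fibres have images of the same size. -/
theorem ncard_image_congr {α β γ : Type*} {S : Set α} (φ : α → β) (ψ : α → γ)
    (h : ∀ i ∈ S, ∀ j ∈ S, φ i = φ j ↔ ψ i = ψ j) : (φ '' S).ncard = (ψ '' S).ncard := by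
  have h1 : Set.InjOn (Prod.fst : β × γ → β) ((fun i => (φ i, ψ i)) '' S) := by
    rintro _ ⟨i, hi, rfl⟩ _ ⟨j, hj, rfl⟩ e
    exact Prod.ext e ((h i hi j hj).1 e)
  have h2 : Set.InjOn (Prod.snd : β × γ → γ) ((fun i => (φ i, ψ i)) '' S) := by
    rintro _ ⟨i, hi, rfl⟩ _ ⟨j, hj, rfl⟩ e
    exact Prod.ext ((h i hi j hj).2 e) e
  have e1 := h1.ncard_image
  have e2 := h2.ncard_image
  rw [Set.image_image] at e1 e2
  exact e1.trans e2.symm

/-- A group of prime order with one fixed point on an invariant set. -/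
theorem ncard_orbits_of_prime {K Y : Type*} [Group K] [Finite K] [MulAction K Y] [Finite Y]
    {p : ℕ} (hp : p.Prime) (hK : Nat.card K = p) {S : Set Y}
    (hS : ∀ y ∈ S, ∀ k : K, k • y ∈ S) {s₀ : Y} (hs : s₀ ∈ S) (hfix : ∀ k : K, k • s₀ = s₀)
    (huniq : ∀ y ∈ S, (∀ k : K, k • y = y) → y = s₀) :
    (orbit K '' S).ncard * p + 1 = S.ncard + p := by
  classical
  haveI := Fintype.ofFinite Y
  have hfib : ∀ y ∈ S, (S.toFinset.filter fun z => orbit K z = orbit K y).card =
      if y = s₀ then 1 else p := by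
    intro y hy
    have h1 : (S.toFinset.filter fun z => orbit K z = orbit K y).card = Nat.card (orbit K y) := by
      rw [Nat.card_coe_set_eq, Set.ncard_eq_toFinset_card']
      congr 1
      ext z
      simp only [Finset.mem_filter, Set.mem_toFinset, orbit_eq_iff]
      refine ⟨And.right, fun hz => ⟨?_, hz⟩⟩
      obtain ⟨k, rfl⟩ := hz
      exact hS y hy k
    rw [h1]
    split_ifs with e
    · subst e
      refine Nat.card_eq_one_iff_unique.2 ⟨⟨?_⟩, ⟨⟨y, mem_orbit_self y⟩⟩⟩
      rintro ⟨_, k, rfl⟩ ⟨_, k', rfl⟩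
      exact Subtype.ext ((hfix k).trans (hfix k').symm)
    · have h2 : Nat.card (orbit K y) ∣ p := by
        rw [← hK, Nat.card_congr (orbitEquivQuotientStabilizer K y)]
        exact Subgroup.card_quotient_dvd_card _
      refine ((Nat.dvd_prime hp).1 h2).resolve_left fun h3 => e (huniq y hy fun k => ?_)
      rw [Nat.card_eq_one_iff_unique] at h3
      exact congrArg Subtype.val
        (h3.1.elim (⟨k • y, mem_orbit y k⟩ : orbit K y) ⟨y, mem_orbit_self y⟩)
  have h4 := Finset.card_eq_sum_card_image (fun z => orbit K z) S.toFinset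
  have h5 : ∀ O ∈ S.toFinset.image (fun z => orbit K z),
      (S.toFinset.filter fun z => orbit K z = O).card + (if O = orbit K s₀ then p - 1 else 0) = p := by
    intro O hO
    obtain ⟨y, hy, rfl⟩ := Finset.mem_image.1 hO
    rw [Set.mem_toFinset] at hy
    rw [hfib y hy]
    by_cases e : y = s₀
    · subst e; rw [if_pos rfl, if_pos rfl]; have := hp.one_le; omega
    · rw [if_neg e, if_neg, add_zero]
      intro e'
      obtain ⟨k, hk⟩ := orbit_eq_iff.1 e'
      exact e (hk.symm.trans (hfix k))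
  have h6 := Finset.sum_congr rfl h5
  rw [Finset.sum_add_distrib, Finset.sum_ite_eq', if_pos (Finset.mem_image_of_mem _
    (Set.mem_toFinset.2 hs)), Finset.sum_const, smul_eq_mul] at h6
  rw [show (orbit K '' S).ncard = (S.toFinset.image fun z => orbit K z).card by
    rw [← Set.toFinset_image, ← Set.ncard_eq_toFinset_card'],
    Set.ncard_eq_toFinset_card']
  rw [← h4] at h6
  have := hp.one_le
  omega

variable {G : Type u} [Group G] [Fintype G] {Ω : Type v} [MulAction G Ω]

namespace FieldLine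

variable {p : ℕ} {a b : Ω} {t f u : G} {A : Subgroup G} (h : FieldLine p a b t f u A)

include h

omit [Fintype G] in
theorem fix_unique_inv (i : Inv G) {x y : Ω} (hx : (i : G) • x = x) (hy : (i : G) • y = y) :
    x = y := h.fix_unique i.2 hx hy

omit [Fintype G] in
theorem smul_inv_fix {g : G} {x : Ω} {i : Inv G} (hi : (i : G) • x = x) :
    ((g • i : Inv G) : G) • (g • x) = g • x := by
  rw [inv_smul_coe, smul_smul, inv_mul_cancel_right, mul_smul, hi]

omit [Fintype G] in
theorem smul_inv_at {g : G} {x : Ω} (hg : g • x = x) {i : Inv G} :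
    ((g • i : Inv G) : G) • x = x ↔ (i : G) • x = x := by
  refine ⟨fun e => ?_, fun e => ?_⟩
  · rw [inv_smul_coe, mul_smul, mul_smul, inv_smul_eq_iff.2 hg.symm] at e
    exact MulAction.injective g (e.trans hg.symm)
  · have := h.smul_inv_fix (g := g) e
    rwa [hg] at this

/-- The norm of the involution character, and the orbits at the point. -/
theorem norm_phi [Finite Ω] : ∃ NC NF : ℕ, 2 ≤ NC ∧ NC ≤ NF ∧ NF * p + 1 = 2 ^ p - 1 + p ∧
    classInner (phi G Ω) (phi G Ω) = (NC : ℂ) + NF - 2 ∧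
    classInner (permChar G Ω) (permChar G Ω) = 2 ∧
    (NC = NF → ∀ c : G, c * t = t * c → ∀ i : G, orderOf i = 2 → i • a = a →
      ∃ k : ℤ, c * i * c⁻¹ = f ^ k * i * (f ^ k)⁻¹) := by
  classical
  haveI := h.pretransitive
  haveI := h.pretransitive_points
  let t' : Inv G := ⟨t, h.t_inv⟩
  let C := stabilizer G t'
  let F := Subgroup.zpowers f
  let Ia : Set (Inv G) := {i | (i : G) • a = a}
  let Ib : Set (Inv G) := {i | (i : G) • b = b}
  have memC : ∀ c : G, c ∈ C ↔ c * t = t * c := fun c => by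
    rw [mem_stabilizer_iff, Subtype.ext_iff, inv_smul_coe, mul_inv_eq_iff_eq_mul]
  have hCa : ∀ c ∈ C, c • a = a := fun c hc => h.fix_unique h.t_inv
    (by rw [smul_smul, ← (memC c).1 hc, mul_smul, h.t_fix]) h.t_fix
  have hFC : F ≤ C := (Subgroup.zpowers_le).2 ((memC f).2 h.f_t)
  have hFab : ∀ k : F, (k : G) • a = a ∧ (k : G) • b = b := fun k => by
    obtain ⟨z, hz⟩ := Subgroup.mem_zpowers_iff.1 k.2
    rw [← hz]; exact h.f_zpow_fix z
  have hcardS : ∀ x : Ω, ({i : Inv G | (i : G) • x = x}).ncard = 2 ^ p - 1 := fun x => by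
    rw [← h.card_inv_at x, ← Nat.card_coe_set_eq]
    exact Nat.card_congr
      (Equiv.subtypeSubtypeEquivSubtypeInter (fun i : G => orderOf i = 2) fun i => i • x = x)
  have hKp : Nat.card F = p := by rw [Nat.card_zpowers, h.orderOf_f]
  -- the fixed point of `f` at `b`
  let s : Inv G := u • t'
  have hs : (s : G) • b = b := by
    have := h.smul_inv_fix (g := u) (i := t') (x := a) h.t_fix
    rwa [h.u_swap.1] at this
  have hsfix : ∀ k : F, k • s = s := by
    rintro ⟨k, hk⟩
    obtain ⟨z, rfl⟩ := Subgroup.mem_zpowers_iff.1 hk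
    show f ^ z • (u • t') = u • t'
    rw [smul_smul, ← h.u_zpow z, mul_smul]
    exact congrArg (u • ·) (mem_stabilizer_iff.1 (hFC (Subgroup.zpow_mem_zpowers f z)))
  have hua : u⁻¹ • b = a := inv_smul_eq_iff.2 h.u_swap.1.symm
  have hFa : (orbit F '' Ia).ncard * p + 1 = 2 ^ p - 1 + p := by
    rw [ncard_orbits_of_prime h.prime hKp (S := Ia) (fun i hi k => (h.smul_inv_at (hFab k).1).2 hi)
      (s₀ := t') h.t_fix (fun k => mem_stabilizer_iff.1 (hFC k.2))
      (fun i hi hfix => Subtype.ext (h.f_only i i.2 hi ?_)), hcardS a]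
    exact (mem_fixedBy_inv.1 (hfix ⟨f, Subgroup.mem_zpowers f⟩)).symm
  have hFb : (orbit F '' Ib).ncard * p + 1 = 2 ^ p - 1 + p := by
    rw [ncard_orbits_of_prime h.prime hKp (S := Ib) (fun i hi k => (h.smul_inv_at (hFab k).2).2 hi)
      (s₀ := s) hs hsfix ?_, hcardS b]
    intro i hi hfix
    have h1 : u⁻¹ • i = t' := by
      refine Subtype.ext (h.f_only _ (u⁻¹ • i).2 ?_ ?_)
      · have := h.smul_inv_fix (g := u⁻¹) hi
        rwa [hua] at this
      · refine (mem_fixedBy_inv (i := u⁻¹ • i) (g := f)).1 ?_ |>.symm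
        rw [mem_fixedBy, smul_smul,
          show f * u⁻¹ = u⁻¹ * f from
            ((show Commute u f from h.u_f).inv_left).eq.symm, mul_smul]
        exact congrArg (u⁻¹ • ·) (hfix ⟨f, Subgroup.mem_zpowers f⟩)
    rw [inv_smul_eq_iff] at h1
    exact h1
  -- orbits of `C` at `a` are unions of orbits of `F`
  let U : Set (Inv G) → Set (Inv G) := fun O => ⋃ i ∈ O, orbit C i
  have hU : ∀ i, U (orbit F i) = orbit C i := by
    intro i
    refine Set.Subset.antisymm (Set.iUnion₂_subset fun j hj => ?_)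
      (Set.subset_iUnion₂ (s := fun j _ => orbit C j) i (mem_orbit_self i))
    obtain ⟨k, rfl⟩ := hj
    show orbit C (k • i) ⊆ orbit C i
    rw [orbit_eq_iff.2 (show k • i ∈ orbit C i from ⟨⟨k, hFC k.2⟩, rfl⟩)]
  have himg : orbit C '' Ia = U '' (orbit F '' Ia) := by
    rw [Set.image_image]
    exact Set.image_congr fun i _ => (hU i).symm
  have hle : (orbit C '' Ia).ncard ≤ (orbit F '' Ia).ncard :=
    himg ▸ Set.ncard_image_le (Set.toFinite _)
  -- two orbits at least
  have h2 : 2 ≤ (orbit C '' Ia).ncard := by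
    obtain ⟨i, hi, hne⟩ := Set.exists_ne_of_one_lt_ncard (s := Ia)
      (by rw [hcardS a]; have := h.eight_le; omega) t'
    rw [← Set.ncard_pair (a := orbit C t') (b := orbit C i) ?_]
    · exact Set.ncard_le_ncard (Set.insert_subset ⟨t', h.t_fix, rfl⟩
        (Set.singleton_subset_iff.2 ⟨i, hi, rfl⟩))
    · intro e
      obtain ⟨c, hc⟩ := orbit_eq_iff.1 e.symm
      exact hne (hc.symm.trans (mem_stabilizer_iff.1 c.2))
  -- the orbits away from the point
  have hout : (orbit C '' Iaᶜ).ncard = (orbit F '' Ib).ncard := by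
    have e1 : orbit C '' Iaᶜ = orbit C '' Ib := by
      refine Set.Subset.antisymm ?_ (Set.image_mono fun i hi hia => h.ne (h.fix_unique_inv i hia hi))
      rintro _ ⟨i, hi, rfl⟩
      obtain ⟨z, hz, -⟩ := h.one i i.2
      obtain ⟨c, hct, -, hcb⟩ := h.exists_cent_smul (z := z) fun e => hi (e ▸ hz : (i : G) • a = a)
      refine ⟨c⁻¹ • i, ?_, orbit_eq_iff.2 ⟨⟨c⁻¹, C.inv_mem ((memC c).2 hct.symm)⟩, rfl⟩⟩
      have := h.smul_inv_fix (g := c⁻¹) hz
      rwa [inv_smul_eq_iff.2 hcb.symm] at this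
    rw [e1]
    refine ncard_image_congr _ _ fun i hi j hj => ⟨fun e => ?_, fun e => ?_⟩
    · obtain ⟨⟨c, hc⟩, rfl⟩ := orbit_eq_iff.1 e
      have hcb : c • b = b :=
        h.fix_unique_inv (c • j : Inv G) (h.smul_inv_fix hj) hi
      exact orbit_eq_iff.2 ⟨⟨c, h.centD.2 c (hCa c hc) hcb ((memC c).1 hc)⟩, rfl⟩
    · rw [← hU, e, hU]
  have hII : classInner (permChar G (Inv G)) (permChar G (Inv G)) =
      ((orbit C '' Ia).ncard : ℂ) + (orbit F '' Ib).ncard := by
    rw [classInner_permChar (Inv G) (Inv G) t', card_quotient_eq_ncard, ← Set.union_compl_self Ia,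
      Set.image_union, Set.ncard_union_eq ?_, hout, Nat.cast_add]
    rw [Set.disjoint_left]
    rintro _ ⟨i, hi, rfl⟩ ⟨j, hj, e⟩
    obtain ⟨⟨c, hc⟩, rfl⟩ := orbit_eq_iff.1 e
    exact hj ((h.smul_inv_at (hCa c hc)).2 hi)
  have hIO : classInner (permChar G (Inv G)) (permChar G Ω) = 2 := by
    rw [classInner_permChar Ω (Inv G) a, card_quotient_eq_two t' s, Nat.cast_ofNat]
    · rintro ⟨⟨c, hc⟩, e⟩
      have e' : ((c • t' : Inv G) : G) • a = a := (h.smul_inv_at hc).2 h.t_fix
      rw [show (c • t' : Inv G) = s from e] at e'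
      exact h.ne (h.fix_unique_inv s e' hs)
    · intro i
      obtain ⟨z, hz, -⟩ := h.one i i.2
      by_cases hza : z = a
      · subst hza
        obtain ⟨α, hα, e⟩ := h.exists_conj i.2 hz
        exact Or.inl ⟨⟨α, (h.fixA α hα).1⟩, Subtype.ext e⟩
      · obtain ⟨c, hct, hca, hcb⟩ := h.exists_cent_smul hza
        have h1 : (((c * u)⁻¹ • i : Inv G) : G) • a = a := by
          have h1' := h.smul_inv_fix (g := (c * u)⁻¹) hz
          rwa [inv_smul_eq_iff.2 (show z = (c * u) • a by rw [mul_smul, h.u_swap.1, hcb])] at h1'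
        obtain ⟨α, hα, e⟩ := h.exists_conj ((c * u)⁻¹ • i).2 h1
        refine Or.inr ⟨⟨c * (u * α * u⁻¹), ?_⟩, ?_⟩
        · rw [mem_stabilizer_iff, h.u_inv α hα, mul_smul, (h.fixA _ (A.inv_mem hα)).1, hca]
        · show (c * (u * α * u⁻¹)) • (u • t') = i
          rw [smul_smul, show c * (u * α * u⁻¹) * u = c * u * α by group, mul_smul,
            show α • t' = (c * u)⁻¹ • i from Subtype.ext e, smul_inv_smul]
  have hOO : classInner (permChar G Ω) (permChar G Ω) = 2 := by
    rw [classInner_permChar Ω Ω a, card_quotient_eq_two a b, Nat.cast_ofNat]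
    · rintro ⟨⟨c, hc⟩, e⟩
      exact h.ne ((mem_stabilizer_iff.1 hc).symm.trans e)
    · intro y
      by_cases hy : y = a
      · subst hy; exact Or.inl (mem_orbit_self y)
      · obtain ⟨g, hg1, hg2⟩ := h.twoTrans a b a y h.ne (Ne.symm hy)
        exact Or.inr ⟨⟨g, hg1⟩, hg2⟩
  have hOI : classInner (permChar G Ω) (permChar G (Inv G)) = 2 := by
    rw [← conj_classInner, hIO, map_ofNat]
  have hNab : (orbit F '' Ib).ncard = (orbit F '' Ia).ncard :=
    Nat.eq_of_mul_eq_mul_right h.prime.pos (by omega)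
  refine ⟨_, _, h2, hle, hFa, ?_, hOO, ?_⟩
  · rw [phi, classInner_sub_left, classInner_sub_right, classInner_sub_right, hII, hIO, hOI, hOO,
      hNab]
    ring
  · intro heq c hc i hi hia
    have hinj : Set.InjOn U (orbit F '' Ia) :=
      (Set.ncard_image_iff (Set.toFinite _)).1 (himg ▸ heq)
    let i' : Inv G := ⟨i, hi⟩
    have hci : c • i' ∈ Ia := (h.smul_inv_at (hCa c ((memC c).2 hc))).2 hia
    have := hinj ⟨_, hci, rfl⟩ ⟨i', hia, rfl⟩
      (by rw [hU, hU]; exact orbit_eq_iff.2 ⟨⟨c, (memC c).2 hc⟩, rfl⟩)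
    obtain ⟨⟨k, hk⟩, e⟩ := orbit_eq_iff.1 this
    obtain ⟨z, rfl⟩ := Subgroup.mem_zpowers_iff.1 hk
    exact ⟨z, (congrArg Subtype.val e).symm⟩

end FieldLine

end Cfsg.Agent.H70.SE
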