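import Cfsg.Agent.H80.Glauberman
import Cfsg.Agent.CharInduce.Induce
import Mathlib.GroupTheory.GroupAction.Quotient

/-!
# Permutation characters: inner products as orbit counts, the class sum at an involution
-/

namespace Cfsg.Agent.H70.SE

open scoped ComplexConjugate
open Cfsg Cfsg.Agent.CharBasic Cfsg.Agent.CharInduce Finset MulAction

universe u v w

variable {G : Type u} [Group G]

/-- The permutation character. -/
noncomputable def permChar (G : Type u) [Group G] (X : Type v) [MulAction G X] : G → ℂ :=
  fun g => (Nat.card (fixedBy X g) : ℂ)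

/-- The involutions of a group. -/
abbrev Inv (G : Type u) [Group G] : Type u := {i : G // orderOf i = 2}

/-- Conjugation of involutions. -/
instance invMulAction : MulAction G (Inv G) where
  smul g i := ⟨g * i * g⁻¹, by rw [← MulAut.conj_apply, MulEquiv.orderOf_eq]; exact i.2⟩
  one_smul i := Subtype.ext (show (1 : G) * i * 1⁻¹ = i by simp)
  mul_smul g h i := Subtype.ext
    (show g * h * i * (g * h)⁻¹ = g * (h * i * h⁻¹) * g⁻¹ by group)

theorem inv_smul_coe (g : G) (i : Inv G) : ((g • i : Inv G) : G) = g * i * g⁻¹ := rfl

theorem mem_fixedBy_inv {g : G} {i : Inv G} : i ∈ fixedBy (Inv G) g ↔ g * i = i * g := by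
  rw [mem_fixedBy, Subtype.ext_iff, inv_smul_coe, mul_inv_eq_iff_eq_mul]

variable [Fintype G]

theorem isCharacter_permChar (X : Type v) [MulAction G X] [Finite X] [IsPretransitive G X]
    (x₀ : X) : IsCharacter G (permChar G X) := by
  rw [show permChar G X = indFun (stabilizer G x₀) (fun _ => 1) from fixedBy_eq_indFun x₀]
  exact IsChar.ind _ IsChar.one

/-- The coefficient of a character in a transitive permutation character. -/
theorem classInner_permChar_left (X : Type v) [MulAction G X] [Finite X] [IsPretransitive G X]
    (x₀ : X) {χ : G → ℂ} (hχ : IsClassFunction G χ) [Fintype (stabilizer G x₀)] :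
    classInner χ (permChar G X) =
      classInner (fun c : stabilizer G x₀ => χ c) (fun _ => 1) := by
  rw [show permChar G X = indFun (stabilizer G x₀) (fun _ => 1) from fixedBy_eq_indFun x₀,
    classInner_indFun_right _ _ _ hχ]

/-- Inner products of permutation characters count orbits. -/
theorem classInner_permChar (X : Type v) (Y : Type w) [MulAction G X] [MulAction G Y] [Finite X]
    [Finite Y] [IsPretransitive G X] (x₀ : X) :
    classInner (permChar G Y) (permChar G X) =
      (Nat.card (orbitRel.Quotient (stabilizer G x₀) Y) : ℂ) := by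
  classical
  haveI := Fintype.ofFinite Y
  haveI := Fintype.ofFinite (stabilizer G x₀)
  haveI : Fintype (orbitRel.Quotient (stabilizer G x₀) Y) := Fintype.ofFinite _
  have hcl : IsClassFunction G (permChar G Y) := by
    intro g h
    exact congrArg Nat.cast (Nat.card_congr
      ⟨fun y => ⟨h⁻¹ • (y : Y), by
          have := y.2; rw [mem_fixedBy] at this ⊢
          conv_rhs => rw [← this]
          simp [smul_smul, mul_assoc]⟩,
        fun y => ⟨h • (y : Y), by
          have := y.2; rw [mem_fixedBy] at this ⊢
          conv_rhs => rw [← this]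
          simp [smul_smul, mul_assoc]⟩,
        fun y => Subtype.ext (by simp), fun y => Subtype.ext (by simp)⟩)
  rw [classInner_permChar_left X x₀ hcl, classInner_def]
  simp only [map_one, mul_one]
  have h := sum_card_fixedBy_eq_card_orbits_mul_card_group (stabilizer G x₀) Y
  have h2 : ∑ c : stabilizer G x₀, permChar G Y c =
      ((Nat.card (orbitRel.Quotient (stabilizer G x₀) Y) * Nat.card (stabilizer G x₀) : ℕ) : ℂ) := by
    rw [Nat.card_eq_fintype_card, Nat.card_eq_fintype_card, ← h, Nat.cast_sum]
    refine Finset.sum_congr rfl fun c _ => ?_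
    show ((Nat.card (fixedBy Y (c : G)) : ℕ) : ℂ) = _
    rw [Nat.card_eq_fintype_card]
    rfl
  rw [h2, Nat.cast_mul]
  have := card_ne_zero_complex (stabilizer G x₀)
  field_simp

/-- The trivial character occurs at least as often on a smaller subgroup. -/
theorem invariants_mono {χ : G → ℂ} (hχ : IsCharacter G χ) {C H : Subgroup G} [Fintype C]
    [Fintype H] (hle : C ≤ H) {c h : ℕ}
    (hc : classInner (fun x : C => χ x) (fun _ => 1) = c)
    (hh : classInner (fun x : H => χ x) (fun _ => 1) = h) : h ≤ c := by
  have hres := IsChar.res hχ H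
  let r : H → ℂ := (fun x : H => χ x) - fun _ => (h : ℂ)
  have hconst : (fun _ : H => (h : ℂ)) = (h : ℂ) • fun _ => (1 : ℂ) := by funext; simp
  have hr : IsCharacter H r := by
    refine isCharacter_of_coeff (fun g x => ?_) fun φ => ?_
    · simp only [r, Pi.sub_apply]
      congr 1
      exact CharBasic.IsChar.isClassFunction hres g x
    · obtain ⟨n, hn⟩ := classInner_isChar_nat hres (CharBasic.IsIrr.isCharacter φ.2)
      simp only [r]
      rw [classInner_sub_left, hconst, classInner_smul_left,
        classInner_irr isIrrCharacter_one φ.2]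
      split_ifs with e
      · refine ⟨0, ?_⟩
        rw [← e, hh]; simp
      · exact ⟨n, by rw [hn]; simp⟩
  obtain ⟨n, hn⟩ := classInner_isChar_nat (IsChar.comp hr (Subgroup.inclusion hle))
    (IsChar.one (G := C))
  have h1 : (fun x : C => χ x) =
      (fun x : C => r (Subgroup.inclusion hle x)) + (h : ℂ) • fun _ => (1 : ℂ) := by
    funext x; simp [r]
  rw [h1, classInner_add_left, hn, classInner_smul_left,
    classInner_irr_self isIrrCharacter_one, mul_one] at hc
  have : n + h = c := by exact_mod_cast hc
  omega

open scoped Classical in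
/-- A sum over the conjugates of an element as a sum over the orbit. -/
theorem sum_conj_eq (t : Inv G) [IsPretransitive G (Inv G)] [Fintype (Inv G)]
    (f : G → ℂ) :
    ∑ c : G, f (c * t * c⁻¹) =
      (Nat.card (stabilizer G t) : ℂ) * ∑ i : Inv G, f i := by
  have hfib : ∀ i : Inv G, #(univ.filter fun c : G => c • t = i) = Nat.card (stabilizer G t) := by
    intro i
    obtain ⟨z, rfl⟩ := exists_smul_eq G t i
    rw [Nat.card_eq_fintype_card, Fintype.card_subtype]
    refine Finset.card_equiv (Equiv.mulLeft z⁻¹) fun x => ?_
    simp [mem_stabilizer_iff, mul_smul, inv_smul_eq_iff]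
  rw [← Finset.sum_fiberwise univ (fun c : G => c • t) fun c => f (c * t * c⁻¹), Finset.mul_sum]
  refine Finset.sum_congr rfl fun i _ => ?_
  rw [Finset.sum_congr rfl fun c hc => ?_, Finset.sum_const, hfib, nsmul_eq_mul]
  rw [← inv_smul_coe, (Finset.mem_filter.1 hc).2]

end Cfsg.Agent.H70.SE
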