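import Cfsg.Agent.H70.SE.Orbits
import Cfsg.Agent.H70.SE.FieldArith

/-!
# The centraliser of `t` at the point has the orbits of `f`

Steps 4c-4e of notes/helper70_bender_H1.md.
-/

namespace Cfsg.Agent.H70.SE

open scoped ComplexConjugate
open Cfsg Cfsg.Agent.CharBasic Cfsg.Agent.CharInduce MulAction Finset

universe u v

theorem two_mul_le_two_pow (n : ℕ) (hn : 7 ≤ n) : 2 * n * (n + 2) + 2 ≤ 2 ^ n := by
  induction n, hn using Nat.le_induction with
  | base => norm_num
  | succ k hk ih => rw [pow_succ]; nlinarith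

variable {G : Type u} [Group G] [Fintype G] {Ω : Type v} [MulAction G Ω]

namespace FieldLine

variable {p : ℕ} {a b : Ω} {t f u : G} {A : Subgroup G} (h : FieldLine p a b t f u A)

include h

/-- The permutation character minus one is irreducible. -/
theorem exists_pi_irr [Finite Ω] (hπ : classInner (permChar G Ω) (permChar G Ω) = 2) :
    ∃ P : IrrCharacter G, (P : G → ℂ) = fun g => permChar G Ω g - 1 := by
  haveI := h.pretransitive_points
  haveI := Fintype.ofFinite (stabilizer G a)
  have hone : IsIrrCharacter G (fun _ : G => (1 : ℂ)) := isIrrCharacter_one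
  have h1 : classInner (fun _ : G => (1 : ℂ)) (permChar G Ω) = 1 := by
    rw [classInner_permChar_left Ω a (CharBasic.IsIrr.isClassFunction hone)]
    exact classInner_irr_self isIrrCharacter_one
  have h2 : classInner (permChar G Ω) (fun _ : G => (1 : ℂ)) = 1 := by
    rw [← conj_classInner, h1, map_one]
  obtain ⟨r, hr, hπr⟩ := IsChar.exists_eq_add h.isCharacter_pi hone (by rw [h2]; exact one_ne_zero)
  have hr' : r = permChar G Ω - fun _ => (1 : ℂ) := by rw [hπr]; abel
  have hn : classInner r r = 1 := by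
    rw [hr', classInner_sub_left, classInner_sub_right, classInner_sub_right, hπ, h1, h2,
      classInner_irr_self hone]
    norm_num
  exact ⟨⟨r, CharInduce.isIrr_of_norm_one hr hn⟩, hr'⟩

/-- Same orbits. -/
theorem same_orbits [Finite Ω] : ∀ c : G, c * t = t * c → ∀ i : G, orderOf i = 2 → i • a = a →
    ∃ k : ℤ, c * i * c⁻¹ = f ^ k * i * (f ^ k)⁻¹ := by
  classical
  haveI := Fintype.ofFinite Ω
  obtain ⟨NC, NF, hNC, hle, hNF, hnorm, hπ, hfin⟩ := h.norm_phi
  suffices hgoal : NC = NF from hfin hgoal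
  obtain ⟨P, hP⟩ := h.exists_pi_irr hπ
  let T : IrrCharacter G := ⟨fun _ => 1, isIrrCharacter_one⟩
  obtain ⟨N, hN, hNcard⟩ := h.torus
  obtain ⟨k, ε, cE, E, c, hkm, hε, hEinj, hcong, hE1, hEcong, hbud, hrel⟩ :=
    hN.exists_family hNcard h.one_lt_card
  choose μ hμ using fun χ => h.exists_mult χ
  have hexp : ∀ g, phi G Ω g = ∑ χ : IrrCharacter G, (μ χ : ℂ) * (χ : G → ℂ) g := fun g => by
    conv_lhs => rw [classFunction_expansion h.phi_class]
    simp [Finset.sum_apply, hμ]
  have hv := hrel (fun χ => (μ χ : ℤ)) (-2) fun α hα hne => by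
    rw [Int.cast_neg, Int.cast_ofNat, ← h.phi_torus hα hne, hexp α]
    simp
  -- the constant characters
  have hdelta : ∀ χ₀ : IrrCharacter G, (∀ α ∈ A, α ≠ 1 → (χ₀ : G → ℂ) α = 1) →
      (∀ i j, (if E i = χ₀ then (1 : ℤ) else 0) = if E j = χ₀ then 1 else 0) ∧
      ∀ i, (1 : ℤ) = (if χ₀ ∈ (univ.image E)ᶜ then c χ₀ else 0) +
        (if E i = χ₀ then 1 else 0) * (k * cE - ε) := by
    intro χ₀ hc₀
    obtain ⟨h1, h2⟩ := hrel (fun χ => if χ = χ₀ then 1 else 0) 1 fun α hα hne => by
      push_cast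
      simp only [ite_mul, one_mul, zero_mul, Finset.sum_ite_eq', Finset.mem_univ, if_true]
      exact hc₀ α hα hne
    refine ⟨h1, fun i => ?_⟩
    have h3 := h2 i
    simp only [ite_mul, one_mul, zero_mul, Finset.sum_ite_eq'] at h3 ⊢
    exact h3
  have hTA : ∀ α ∈ A, α ≠ 1 → (T : G → ℂ) α = 1 := fun _ _ _ => rfl
  have hPA : ∀ α ∈ A, α ≠ 1 → (P : G → ℂ) α = 1 := by
    intro α hα hne
    rw [hP]
    have hfx : fixedBy Ω α = {a, b} := Set.ext fun z => ⟨h.fixedA α hα hne z, by
      rintro (rfl | rfl)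
      · exact (h.fixA α hα).1
      · exact (h.fixA α hα).2⟩
    simp only [permChar]
    rw [hfx, Nat.card_coe_set_eq, Set.ncard_pair h.ne]
    norm_num
  -- arithmetic data
  obtain ⟨hdvd, hn3⟩ := h.card_points
  obtain ⟨q, hq⟩ := hdvd
  set n : ℤ := (Nat.card Ω : ℤ) with hn
  set m : ℤ := (Nat.card A : ℤ) with hm
  have hm2 : (2 ^ p - 1 : ℤ) = m := by
    rw [hm, h.cardA]
    have := h.eight_le
    push_cast [Nat.cast_sub (show 1 ≤ 2 ^ p by omega)]
    ring
  rw [hm2] at hq
  have hmk : m = 2 * k * p + 1 := by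
    rw [hm, ← hkm]; push_cast; ring
  have hNF' : (NF : ℤ) = 2 * k + 1 := by
    have h8 := h.eight_le
    have e : (NF : ℤ) * p + 1 = m + p := by rw [hm, h.cardA]; exact_mod_cast hNF
    have hp0 : (p : ℤ) ≠ 0 := by exact_mod_cast h.prime.ne_zero
    apply mul_right_cancel₀ hp0
    linarith
  have hd : ∀ χ, ∃ d : ℤ, (μ χ ≠ 0 → 1 ≤ d ∧ (χ : G → ℂ) 1 = ((n * d : ℤ) : ℂ)) ∧
      (μ χ = 0 → d = 0) := by
    intro χ
    by_cases e : μ χ = 0
    · exact ⟨0, fun h' => absurd e h', fun _ => rfl⟩
    · obtain ⟨d, hd1, hd2, -⟩ := h.degree (χ := χ) (by rw [hμ]; exact_mod_cast e)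
      exact ⟨d, fun _ => ⟨hd1, hd2⟩, fun h' => absurd h' e⟩
  choose d hd hd0 using hd
  have hn3' : 3 ≤ n := by rw [hn]; exact_mod_cast hn3
  have hμT : μ T = 0 := by
    by_contra e
    have h2 : n * d T = 1 := Int.cast_injective (α := ℂ) (by rw [← (hd T e).2, Int.cast_one])
    nlinarith [(hd T e).1]
  have hμP : μ P = 0 := by
    by_contra e
    have h2 := (hd P e).2
    rw [hP] at h2
    simp only [permChar] at h2
    rw [fixedBy_one_eq_univ, Nat.card_univ] at h2
    have h3 : n - 1 = n * d P := by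
      rw [hn] at h2 ⊢
      exact_mod_cast h2
    nlinarith [(hd P e).1]
  have hTP : T ≠ P := fun e => by
    have h1 := congrFun (congrArg Subtype.val e) 1
    rw [hP] at h1
    have h2 : (1 : ℂ) = (Nat.card Ω : ℂ) - 1 := by
      refine h1.trans ?_
      simp only [permChar]
      rw [fixedBy_one_eq_univ, Nat.card_univ]
    have h3 : ((Nat.card Ω : ℕ) : ℂ) = ((2 : ℕ) : ℂ) := by push_cast; linear_combination -h2
    have := Nat.cast_injective h3
    omega
  -- sums over all characters
  have hnorm' : ∑ χ, (μ χ : ℤ) ^ 2 = NC + NF - 2 := by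
    have h1 := classInner_eq_sum (ψ := phi G Ω) h.phi_class
    rw [hnorm] at h1
    simp only [hμ, map_natCast] at h1
    apply Int.cast_injective (α := ℂ)
    push_cast
    rw [h1]
    simp [sq]
  have hdegsum : ∑ χ, (μ χ : ℤ) * d χ = m - 1 := by
    have h1 := h.phi_one
    rw [hexp 1] at h1
    have h2 : ∑ χ : IrrCharacter G, (μ χ : ℂ) * (χ : G → ℂ) 1 =
        ((n * ∑ χ, (μ χ : ℤ) * d χ : ℤ) : ℂ) := by
      rw [Finset.mul_sum, Int.cast_sum]
      refine Finset.sum_congr rfl fun χ _ => ?_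
      by_cases e : μ χ = 0
      · simp [e]
      · rw [(hd χ e).2]; push_cast; ring
    have h4 : ((n * ∑ χ, (μ χ : ℤ) * d χ : ℤ) : ℂ) = ((n * (m - 1) : ℤ) : ℂ) := by
      rw [← h2, h1, hn, hm, h.cardA]; push_cast; ring
    exact mul_left_cancel₀ (by omega : n ≠ 0) (Int.cast_injective h4)
  have hcompl : ∀ F : IrrCharacter G → ℤ,
      ∑ χ, F χ = ∑ χ ∈ (univ.image E)ᶜ, F χ + ∑ i, F (E i) := by
    intro F
    rw [← Finset.sum_image (g := E) (fun i _ j _ hij => hEinj hij), Finset.sum_compl_add_sum]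
  have hcongd : ∀ χ, μ χ ≠ 0 → ∀ cc : ℤ, (∃ z : ℤ, (χ : G → ℂ) 1 = ((cc + m * z : ℤ) : ℂ)) →
      m ∣ 2 * d χ - cc := by
    intro χ e cc hz
    obtain ⟨z, hz⟩ := hz
    rw [(hd χ e).2, Int.cast_inj] at hz
    refine ⟨z - q * d χ, ?_⟩
    have : n = 2 + m * q := by linarith
    rw [this] at hz
    linear_combination hz
  have hi0 : 0 < k := by
    rcases k with _ | k
    · have := h.one_lt_card; omega
    · omega
  let i0 : Fin k := ⟨0, hi0⟩
  have hp3 : p = 3 ∨ 5 ≤ p := by
    have h2 := h.prime.two_le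
    have hodd := h.odd
    have h4 : p ≠ 4 := by rintro rfl; exact absurd h.prime (by norm_num)
    omega
  rcases hp3 with rfl | hp5
  · -- one exceptional character, merged with the others
    obtain rfl : k = 1 := by rw [h.cardA] at hkm; norm_num at hkm; omega
    have hE : ∀ i, E i = E i0 := fun i => by rw [Subsingleton.elim i i0]
    let c' : IrrCharacter G → ℤ := fun χ => if χ = E i0 then cE - ε else c χ
    have hout : ∀ χ, χ ≠ E i0 → χ ∈ (univ.image E)ᶜ := fun χ hne => by
      simp only [Finset.mem_compl, Finset.mem_image, Finset.mem_univ, true_and, not_exists]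
      exact fun i e => hne (by rw [← e, hE i])
    have hin : E i0 ∉ (univ.image E)ᶜ := fun hi => (Finset.mem_compl.1 hi) (Finset.mem_image_of_mem E (Finset.mem_univ i0))
    have hc'one : ∀ χ₀ : IrrCharacter G, (∀ α ∈ A, α ≠ 1 → (χ₀ : G → ℂ) α = 1) → c' χ₀ = 1 := by
      intro χ₀ hc₀
      have h1 := (hdelta χ₀ hc₀).2 i0
      simp only [c']
      by_cases e : χ₀ = E i0
      · subst e
        rw [if_neg hin, if_pos rfl] at h1
        rw [if_pos rfl]
        push_cast at h1
        linarith
      · rw [if_pos (hout χ₀ e), if_neg (Ne.symm e)] at h1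
        rw [if_neg e]
        linarith
    have hsumc : ∀ F : IrrCharacter G → ℤ → ℤ, ∑ χ, F χ (c' χ) =
        ∑ χ ∈ (univ.image E)ᶜ, F χ (c χ) + F (E i0) (cE - ε) := by
      intro F
      rw [hcompl, Fin.sum_univ_one]
      congr 1
      · refine Finset.sum_congr rfl fun χ hχ => ?_
        simp only [c']
        rw [if_neg fun e => hin (by rw [← e]; exact hχ)]
      · simp only [c']
        rw [hE, if_pos rfl]
    set s := univ.filter fun χ => μ χ ≠ 0 with hs
    have hfil : ∀ F : IrrCharacter G → ℤ, (∀ χ, μ χ = 0 → F χ = 0) → ∑ χ ∈ s, F χ = ∑ χ, F χ :=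
      fun F hF => Finset.sum_filter_of_ne fun χ _ hne e => hne (hF χ e)
    have key := FieldArith.norm_three s (fun χ => (μ χ : ℤ)) d c'
      (fun χ hχ => by have : μ χ ≠ 0 := (Finset.mem_filter.1 hχ).2; omega)
      (fun χ hχ => (hd χ (Finset.mem_filter.1 hχ).2).1)
      (fun χ hχ => by
        have hχ' := (Finset.mem_filter.1 hχ).2
        have hm7 : m = 7 := by rw [hm, h.cardA]; norm_num
        rw [← hm7]
        refine hcongd χ hχ' _ ?_
        simp only [c']
        by_cases e : χ = E i0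
        · obtain ⟨z, hz⟩ := hEcong i0
          rw [if_pos e, e]
          refine ⟨z + ε, hz.trans (congrArg _ ?_)⟩
          rw [hm7]
          push_cast; ring
        · rw [if_neg e]
          exact hcong χ (hout χ e))
      (by
        have h1 : ∑ χ, c' χ ^ 2 = 7 := by
          rw [hsumc fun _ x => x ^ 2]
          push_cast at hbud
          rcases hε with rfl | rfl <;> linarith
        have h2 : ({T, P} : Finset (IrrCharacter G)) ⊆ univ \ s := by
          intro χ hχ
          rcases Finset.mem_insert.1 hχ with rfl | hχ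
          · simp [hs, hμT]
          · rw [Finset.mem_singleton.1 hχ]; simp [hs, hμP]
        have h3 := Finset.sum_le_sum_of_subset_of_nonneg h2
          (f := fun χ => c' χ ^ 2) fun χ _ _ => sq_nonneg _
        rw [Finset.sum_pair hTP, hc'one T hTA, hc'one P hPA] at h3
        have h4 := Finset.sum_sdiff (f := fun χ => c' χ ^ 2) (Finset.subset_univ s)
        linarith)
      (by
        rw [hfil (fun χ => (μ χ : ℤ) * d χ) (fun χ e => by simp [e]), hdegsum, hm, h.cardA]
        norm_num)
      (by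
        rw [hfil (fun χ => (μ χ : ℤ) * c' χ) (fun χ e => by simp [e]),
          hsumc fun χ x => (μ χ : ℤ) * x]
        have := hv.2 i0
        push_cast at this ⊢
        linarith)
      (by
        rw [hfil (fun χ => (μ χ : ℤ) ^ 2) (fun χ e => by simp [e]), hnorm', hNF']
        push_cast
        have : (2 : ℤ) ≤ NC := by exact_mod_cast hNC
        linarith)
    rw [hfil (fun χ => (μ χ : ℤ) ^ 2) (fun χ e => by simp [e]), hnorm', hNF'] at key
    push_cast at key
    have : (NC : ℤ) = NF := by rw [hNF']; push_cast; linarith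
    exact_mod_cast this
  · -- at least three exceptional characters
    have hpk : (p : ℤ) = 5 ∧ (k : ℤ) = 3 ∨ 7 ≤ (p : ℤ) ∧ (p : ℤ) + 2 ≤ k := by
      rw [h.cardA] at hkm
      rcases hp5.eq_or_lt with rfl | hlt
      · left
        norm_num at hkm
        exact ⟨rfl, by exact_mod_cast (show k = 3 by omega)⟩
      · right
        have h7 : 7 ≤ p := by
          rcases Nat.lt_or_ge p 7 with h' | h'
          · obtain rfl : p = 6 := by omega
            exact absurd h.prime (by norm_num)
          · exact h'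
        have := two_mul_le_two_pow p h7
        refine ⟨by exact_mod_cast h7, ?_⟩
        have h9 : p + 2 ≤ k := by
          by_contra hc
          have : k * (2 * p) ≤ (p + 1) * (2 * p) := Nat.mul_le_mul_right _ (by omega)
          nlinarith
        exact_mod_cast h9
    have hk2 : 2 ≤ k := by
      have : (2 : ℤ) ≤ k := by rcases hpk with ⟨-, h'⟩ | ⟨h', h''⟩ <;> linarith
      exact_mod_cast this
    have hnotin : ∀ χ₀ : IrrCharacter G, (∀ α ∈ A, α ≠ 1 → (χ₀ : G → ℂ) α = 1) →
        χ₀ ∈ (univ.image E)ᶜ ∧ c χ₀ = 1 := by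
      intro χ₀ hc₀
      obtain ⟨h1, h2⟩ := hdelta χ₀ hc₀
      have hne : ∀ i, E i ≠ χ₀ := by
        intro i e
        obtain ⟨j, hj⟩ := Fintype.exists_ne_of_one_lt_card
          (by rw [Fintype.card_fin]; omega) i
        have := h1 i j
        rw [if_pos e, if_neg fun e' => hj (hEinj (e'.trans e.symm))] at this
        omega
      have hmem : χ₀ ∈ (univ.image E)ᶜ := by
        simp only [Finset.mem_compl, Finset.mem_image, Finset.mem_univ, true_and, not_exists]
        exact hne
      have := h2 i0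
      rw [if_pos hmem, if_neg (hne i0)] at this
      exact ⟨hmem, by linarith⟩
    set s := (univ.image E)ᶜ.filter fun χ => μ χ ≠ 0 with hs
    have hfil : ∀ F : IrrCharacter G → ℤ, (∀ χ, μ χ = 0 → F χ = 0) →
        ∑ χ ∈ s, F χ = ∑ χ ∈ (univ.image E)ᶜ, F χ :=
      fun F hF => Finset.sum_filter_of_ne fun χ _ hne e => hne (hF χ e)
    have hsame : ∀ i, μ (E i) = μ (E i0) := fun i => by exact_mod_cast hv.1 i i0
    have hdsame : ∀ i, (μ (E i) : ℤ) * d (E i) = (μ (E i0) : ℤ) * d (E i0) := by
      intro i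
      rw [hsame i]
      by_cases e : μ (E i0) = 0
      · simp [e]
      · congr 1
        have e1 := (hd (E i) (by rwa [hsame i])).2
        rw [hE1 i i0, (hd (E i0) e).2, Int.cast_inj] at e1
        exact (mul_left_cancel₀ (by omega : n ≠ 0) e1).symm
    have hμsq : ∑ χ ∈ s, (μ χ : ℤ) ^ 2 + k * (μ (E i0) : ℤ) ^ 2 = NC + NF - 2 := by
      rw [← hnorm', hcompl, hfil (fun χ => (μ χ : ℤ) ^ 2) (fun χ e => by simp [e]),
        Finset.sum_congr rfl (g := fun _ : Fin k => (μ (E i0) : ℤ) ^ 2)
          (fun i _ => by rw [hsame i] : ∀ i ∈ (univ : Finset (Fin k)),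
            (μ (E i) : ℤ) ^ 2 = (μ (E i0) : ℤ) ^ 2)]
      simp
    have key := FieldArith.norm_eq s (fun χ => (μ χ : ℤ)) d c (μ (E i0)) (d (E i0)) cE ε p k m
      hmk hpk hε
      (fun χ hχ => by have : μ χ ≠ 0 := (Finset.mem_filter.1 hχ).2; omega)
      (fun χ hχ => (hd χ (Finset.mem_filter.1 hχ).2).1) (Int.natCast_nonneg _)
      (fun e => (hd _ (by exact_mod_cast e)).1)
      (fun χ hχ => hcongd χ (Finset.mem_filter.1 hχ).2 _ (hcong χ (Finset.mem_filter.1 hχ).1))
      (fun e => by
        obtain ⟨z, hz⟩ := hEcong i0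
        have h1 := hcongd (E i0) (by exact_mod_cast e) (cE + ε * (2 * p : ℕ)) ⟨z, hz⟩
        push_cast at h1
        rwa [show 2 * d (E i0) - (cE + ε * (2 * p : ℤ)) = 2 * d (E i0) - 2 * ε * p - cE by ring]
          at h1)
      (by
        have h1 : ∑ χ ∈ s, c χ ^ 2 + 2 ≤ ∑ χ ∈ (univ.image E)ᶜ, c χ ^ 2 := by
          have h2 : ({T, P} : Finset (IrrCharacter G)) ⊆ (univ.image E)ᶜ \ s := by
            intro χ hχ
            rcases Finset.mem_insert.1 hχ with rfl | hχ
            · exact Finset.mem_sdiff.2 ⟨(hnotin T hTA).1, by simp [hs, hμT]⟩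
            · rw [Finset.mem_singleton.1 hχ]
              exact Finset.mem_sdiff.2 ⟨(hnotin P hPA).1, by simp [hs, hμP]⟩
          have h3 := Finset.sum_le_sum_of_subset_of_nonneg h2
            (f := fun χ => c χ ^ 2) fun χ _ _ => sq_nonneg _
          rw [Finset.sum_pair hTP, (hnotin T hTA).2, (hnotin P hPA).2] at h3
          have h4 := Finset.sum_sdiff (f := fun χ => c χ ^ 2)
            (Finset.filter_subset (fun χ => μ χ ≠ 0) (univ.image E)ᶜ)
          rw [← hs] at h4
          linarith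
        push_cast at hbud
        linarith)
      (by
        rw [hcompl] at hdegsum
        rw [hfil (fun χ => (μ χ : ℤ) * d χ) (fun χ e => by simp [e])]
        rw [Finset.sum_congr rfl fun i _ => hdsame i, Finset.sum_const, Finset.card_univ,
          Fintype.card_fin, nsmul_eq_mul] at hdegsum
        linarith)
      (by
        rw [hfil (fun χ => (μ χ : ℤ) * c χ) (fun χ e => by simp [e])]
        linarith [hv.2 i0])
      (by
        rw [hμsq, hNF']
        have : (2 : ℤ) ≤ NC := by exact_mod_cast hNC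
        linarith)
    rw [hμsq, hNF'] at key
    have : (NC : ℤ) = NF := by rw [hNF']; linarith
    exact_mod_cast this

end FieldLine

end Cfsg.Agent.H70.SE
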