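import Cfsg.Agent.H70.SE.AFamily
import Cfsg.Agent.H70.SE.PermInner

/-!
# A line whose point stabiliser has the field automorphism of prime order in its pair stabiliser

The hypotheses of step 4 of notes/helper70_bender_H1.md and their immediate consequences.
-/

namespace Cfsg.Agent.H70.SE

open Cfsg MulAction

universe u v

variable {G : Type u} [Group G] {Ω : Type v} [MulAction G Ω]

/-- Every involution fixes one point and commutes with the others there (`2 ^ p - 1` of them at a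
point); the pair stabiliser is `A⟨f⟩` with `A` cyclic of order `2 ^ p - 1`, inverted by the swapper
`u`, and `f` of order `p` centralising `t` and `u`. -/
structure FieldLine (p : ℕ) (a b : Ω) (t f u : G) (A : Subgroup G) : Prop where
  prime : p.Prime
  odd : p ≠ 2
  ne : a ≠ b
  twoTrans : ∀ x y x' y' : Ω, x ≠ y → x' ≠ y' → ∃ g : G, g • x = x' ∧ g • y = y'
  one : ∀ i : G, orderOf i = 2 → ∃ z : Ω, i • z = z ∧ ∀ w : Ω, i • w = w → w = z
  com : ∀ i j : G, orderOf i = 2 → orderOf j = 2 → i • a = a → j • a = a → i * j = j * i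
  card_inv : Nat.card {i : G // orderOf i = 2 ∧ i • a = a} = 2 ^ p - 1
  cardA : Nat.card A = 2 ^ p - 1
  cyclicA : IsCyclic A
  fixA : ∀ α ∈ A, α • a = a ∧ α • b = b
  fixedA : ∀ α ∈ A, α ≠ 1 → ∀ z : Ω, α • z = z → z = a ∨ z = b
  centA : ∀ α ∈ A, α ≠ 1 → ∀ x : G, x * α = α * x → x ∈ A
  normA : ∀ x : G, x • a = a → x • b = b → ∀ α ∈ A, x * α * x⁻¹ ∈ A
  cardD : Nat.card {x : G // x • a = a ∧ x • b = b} = (2 ^ p - 1) * p
  t_inv : orderOf t = 2
  t_fix : t • a = a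
  f_fix : f • a = a ∧ f • b = b
  f_ne : f ≠ 1
  f_t : f * t = t * f
  f_only : ∀ i : G, orderOf i = 2 → i • a = a → i * f = f * i → i = t
  u_swap : u • a = b ∧ u • b = a
  u_inv : ∀ α ∈ A, u * α * u⁻¹ = α⁻¹
  u_f : u * f = f * u

namespace FieldLine

variable {p : ℕ} {a b : Ω} {t f u : G} {A : Subgroup G} (h : FieldLine p a b t f u A)

include h

theorem eight_le : 8 ≤ 2 ^ p := by
  have : 3 ≤ p := by have := h.prime.two_le; have := h.odd; omega
  calc 8 = 2 ^ 3 := rfl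
    _ ≤ 2 ^ p := Nat.pow_le_pow_right (by norm_num) this

theorem one_lt_card : 1 < Nat.card A := by have := h.eight_le; rw [h.cardA]; omega

theorem commA (x : G) (hx : x ∈ A) (y : G) (hy : y ∈ A) : x * y = y * x := by
  haveI := h.cyclicA
  exact congrArg Subtype.val (mul_comm' (⟨x, hx⟩ : A) ⟨y, hy⟩)

theorem fix_unique {i : G} (hi : orderOf i = 2) {x y : Ω} (hx : i • x = x) (hy : i • y = y) :
    x = y := by
  obtain ⟨z, -, hz⟩ := h.one i hi
  rw [hz x hx, hz y hy]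

theorem inv_notMem {i : G} (hi : orderOf i = 2) : i ∉ A := by
  intro hA
  have h1 : orderOf i ∣ Nat.card A := Subgroup.orderOf_dvd_natCard A hA
  rw [hi, h.cardA] at h1
  have h8 := h.eight_le
  have h2 : 2 ∣ 2 ^ p := dvd_pow_self 2 h.prime.ne_zero
  omega

theorem eq_one_of_commute {α : G} (hα : α ∈ A) {i : G} (hi : orderOf i = 2)
    (hc : i * α = α * i) : α = 1 :=
  by_contra fun hne => h.inv_notMem hi (h.centA α hα hne i hc)

theorem fix_of_commute {i : G} (hi : orderOf i = 2) (hc : i * t = t * i) : i • a = a := by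
  refine h.fix_unique h.t_inv ?_ h.t_fix
  rw [smul_smul, ← hc, ← smul_smul, h.t_fix]

theorem t_moves {z : Ω} (hz : z ≠ a) : t • z ≠ z := fun e => hz (h.fix_unique h.t_inv e h.t_fix)

theorem t_mul_t : t * t = 1 := by
  rw [← sq, ← h.t_inv, pow_orderOf_eq_one]

theorem exists_point_ne (z : Ω) : ∃ w, w ≠ z := by
  by_cases hz : z = a
  · exact ⟨b, hz ▸ h.ne.symm⟩
  · exact ⟨a, Ne.symm hz⟩

variable [Finite G]

theorem exists_conj {i : G} (hi : orderOf i = 2) (hia : i • a = a) :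
    ∃ α ∈ A, α * t * α⁻¹ = i := by
  let φ : A → {i : G // orderOf i = 2 ∧ i • a = a} := fun α =>
    ⟨α * t * (α : G)⁻¹, by
      rw [← MulAut.conj_apply, MulEquiv.orderOf_eq]; exact h.t_inv, by
      rw [mul_smul, mul_smul, show (α : G)⁻¹ • a = a from inv_smul_eq_iff.2 (h.fixA α α.2).1.symm,
        h.t_fix, (h.fixA α α.2).1]⟩
  have hinj : Function.Injective φ := by
    intro α β e
    have e' : (α : G) * t * (α : G)⁻¹ = β * t * (β : G)⁻¹ := congrArg Subtype.val e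
    have h1 := h.eq_one_of_commute (A.mul_mem (A.inv_mem β.2) α.2) h.t_inv (by
      calc t * ((β : G)⁻¹ * α) = (β : G)⁻¹ * (β * t * (β : G)⁻¹) * α := by group
        _ = (β : G)⁻¹ * ((α : G) * t * (α : G)⁻¹) * α := by rw [e']
        _ = (β : G)⁻¹ * α * t := by group)
    exact Subtype.ext (inv_mul_eq_one.1 h1).symm
  obtain ⟨α, hα⟩ := ((Nat.bijective_iff_injective_and_card φ).2
    ⟨hinj, by rw [h.cardA, h.card_inv]⟩).2 ⟨i, hi, hia⟩
  exact ⟨α, α.2, congrArg Subtype.val hα⟩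

theorem exists_conj_all {i : G} (hi : orderOf i = 2) : ∃ g : G, g * t * g⁻¹ = i := by
  obtain ⟨z, hz, -⟩ := h.one i hi
  obtain ⟨w, hw⟩ := h.exists_point_ne z
  obtain ⟨g, hg, -⟩ := h.twoTrans z w a b hw.symm h.ne
  obtain ⟨α, -, hα⟩ := h.exists_conj (i := g * i * g⁻¹)
    (by rw [← MulAut.conj_apply, MulEquiv.orderOf_eq]; exact hi)
    (by rw [mul_smul, mul_smul, show g⁻¹ • a = z from inv_smul_eq_iff.2 hg.symm, hz, hg])
  exact ⟨g⁻¹ * α, by
    calc g⁻¹ * α * t * (g⁻¹ * α)⁻¹ = g⁻¹ * (α * t * α⁻¹) * g := by group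
      _ = i := by rw [hα]; group⟩

theorem pretransitive : IsPretransitive G (Inv G) := by
  refine ⟨fun i j => ?_⟩
  obtain ⟨g, hg⟩ := h.exists_conj_all i.2
  obtain ⟨g', hg'⟩ := h.exists_conj_all j.2
  refine ⟨g' * g⁻¹, Subtype.ext ?_⟩
  rw [inv_smul_coe, ← hg, ← hg']
  group

theorem pretransitive_points : IsPretransitive G Ω := by
  refine ⟨fun x y => ?_⟩
  obtain ⟨x', hx⟩ := h.exists_point_ne x
  obtain ⟨y', hy⟩ := h.exists_point_ne y
  obtain ⟨g, hg, -⟩ := h.twoTrans x x' y y' hx.symm hy.symm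
  exact ⟨g, hg⟩

/-- The element of `A` above an element fixing `a`. -/
theorem exists_commute_t {g : G} (hg : g • a = a) :
    ∃ α ∈ A, t * (g * α) = g * α * t := by
  obtain ⟨α, hα, e⟩ := h.exists_conj (i := g⁻¹ * t * g)
    (by
      rw [show g⁻¹ * t * g = MulAut.conj g⁻¹ t by simp [MulAut.conj_apply],
        MulEquiv.orderOf_eq]
      exact h.t_inv)
    (by rw [mul_smul, mul_smul, hg, h.t_fix, inv_smul_eq_iff, hg])
  refine ⟨α, hα, ?_⟩
  calc t * (g * α) = g * (g⁻¹ * t * g) * α := by group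
    _ = g * (α * t * α⁻¹) * α := by rw [e]
    _ = g * α * t := by group

/-- The centraliser of `t` is transitive on the other points. -/
theorem exists_cent_smul {z : Ω} (hz : z ≠ a) :
    ∃ c : G, t * c = c * t ∧ c • a = a ∧ c • b = z := by
  obtain ⟨g, hga, hgb⟩ := h.twoTrans a b a z h.ne hz.symm
  obtain ⟨α, hα, hc⟩ := h.exists_commute_t hga
  exact ⟨g * α, hc, by rw [mul_smul, (h.fixA α hα).1, hga],
    by rw [mul_smul, (h.fixA α hα).2, hgb]⟩

omit [Finite G] in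
theorem f_zpow_fix (k : ℤ) : f ^ k • a = a ∧ f ^ k • b = b :=
  ⟨(stabilizer G a).zpow_mem h.f_fix.1 k, (stabilizer G b).zpow_mem h.f_fix.2 k⟩

/-- The centraliser of `t` in the pair stabiliser is generated by `f`, of order `p`. -/
theorem centD : orderOf f = p ∧
    ∀ x : G, x • a = a → x • b = b → x * t = t * x → x ∈ Subgroup.zpowers f := by
  let C : Subgroup G := stabilizer G a ⊓ stabilizer G b ⊓ Subgroup.centralizer {t}
  have hmem : ∀ x, x ∈ C ↔ x • a = a ∧ x • b = b ∧ t * x = x * t := fun x => by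
    simp only [C, Subgroup.mem_inf, mem_stabilizer_iff, Subgroup.mem_centralizer_singleton_iff,
      and_assoc, eq_comm (a := x * t)]
  have hfC : f ∈ C := (hmem f).2 ⟨h.f_fix.1, h.f_fix.2, h.f_t.symm⟩
  let φ : A × C → {x : G // x • a = a ∧ x • b = b} := fun y =>
    ⟨y.1 * y.2, by rw [mul_smul, ((hmem _).1 y.2.2).1, (h.fixA _ y.1.2).1],
      by rw [mul_smul, ((hmem _).1 y.2.2).2.1, (h.fixA _ y.1.2).2]⟩
  have hbij : Function.Bijective φ := by
    constructor
    · rintro ⟨α, c⟩ ⟨β, d⟩ e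
      have e' : (α : G) * c = β * d := congrArg Subtype.val e
      have e2 : (β : G)⁻¹ * α = d * (c : G)⁻¹ := by
        rw [eq_mul_inv_iff_mul_eq, mul_assoc, e', inv_mul_cancel_left]
      have hc := ((hmem _).1 (C.mul_mem d.2 (C.inv_mem c.2))).2.2
      rw [← e2] at hc
      have h1 := h.eq_one_of_commute (A.mul_mem (A.inv_mem β.2) α.2) h.t_inv hc
      have : α = β := Subtype.ext (inv_mul_eq_one.1 h1).symm
      subst this
      exact Prod.ext rfl (Subtype.ext (mul_left_cancel e'))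
    · rintro ⟨x, hxa, hxb⟩
      obtain ⟨α, hα, hc⟩ := h.exists_commute_t hxa
      have hxα : x * α ∈ C := (hmem _).2 ⟨by rw [mul_smul, (h.fixA α hα).1, hxa],
        by rw [mul_smul, (h.fixA α hα).2, hxb], hc⟩
      refine ⟨(⟨x * α⁻¹ * x⁻¹, h.normA x hxa hxb _ (A.inv_mem hα)⟩, ⟨x * α, hxα⟩),
        Subtype.ext ?_⟩
      show x * α⁻¹ * x⁻¹ * (x * α) = x
      group
  have hcard := Nat.card_eq_of_bijective φ hbij
  rw [Nat.card_prod, h.cardD, h.cardA] at hcard
  have hC : Nat.card C = p := Nat.eq_of_mul_eq_mul_left (by have := h.eight_le; omega) hcard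
  have hord : orderOf f = p :=
    ((Nat.dvd_prime h.prime).1 (hC ▸ Subgroup.orderOf_dvd_natCard C hfC)).resolve_left
      fun e => h.f_ne (orderOf_eq_one_iff.1 e)
  have heq : Subgroup.zpowers f = C :=
    Subgroup.eq_of_le_of_card_ge ((Subgroup.zpowers_le).2 hfC)
      (by rw [hC, Nat.card_zpowers, hord])
  exact ⟨hord, fun x hxa hxb hx => heq ▸ (hmem x).2 ⟨hxa, hxb, hx.symm⟩⟩

theorem orderOf_f : orderOf f = p := h.centD.1

theorem exists_eq_mul {x : G} (hxa : x • a = a) (hxb : x • b = b) :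
    ∃ β ∈ A, ∃ k : ℤ, x = β * f ^ k := by
  obtain ⟨α, hα, hc⟩ := h.exists_commute_t hxa
  obtain ⟨k, hk⟩ := Subgroup.mem_zpowers_iff.1 (h.centD.2 (x * α)
    (by rw [mul_smul, (h.fixA α hα).1, hxa]) (by rw [mul_smul, (h.fixA α hα).2, hxb]) hc.symm)
  exact ⟨x * α⁻¹ * x⁻¹, h.normA x hxa hxb _ (A.inv_mem hα), k, by rw [hk]; group⟩

theorem f_zpow_mem_iff (k : ℤ) : f ^ k ∈ A ↔ f ^ k = 1 :=
  ⟨fun hk => h.eq_one_of_commute hk h.t_inv ((show Commute t f from h.f_t.symm).zpow_right k),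
    fun hk => hk ▸ A.one_mem⟩

omit [Finite G] in
theorem u_zpow (k : ℤ) : u * f ^ k = f ^ k * u := (show Commute u f from h.u_f).zpow_right k

theorem f_zpow_two {k : ℤ} (hk : f ^ (2 * k) = 1) : f ^ k = 1 := by
  rw [← orderOf_dvd_iff_zpow_eq_one, h.orderOf_f] at hk ⊢
  refine (Nat.prime_iff_prime_int.1 h.prime).dvd_or_dvd hk |>.resolve_left fun h2 => ?_
  have := Int.le_of_dvd (by norm_num) h2
  have := h.prime.two_le
  have := h.odd
  omega

/-- An involution swapping the pair inverts `A` and inverts no element of the pair stabiliser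
outside `A`. -/
theorem swapper {s : G} (hs : orderOf s = 2) (hsa : s • a = b) (hsb : s • b = a) :
    (∀ α ∈ A, s * α * s⁻¹ = α⁻¹) ∧
      ∀ d : G, d • a = a → d • b = b → s * d * s⁻¹ = d⁻¹ → d ∈ A := by
  have hda : (u⁻¹ * s) • a = a := by rw [mul_smul, hsa, inv_smul_eq_iff, h.u_swap.1]
  have hdb : (u⁻¹ * s) • b = b := by rw [mul_smul, hsb, inv_smul_eq_iff, h.u_swap.2]
  obtain ⟨β, hβ, k, e⟩ := h.exists_eq_mul hda hdb
  have es : s = u * β * f ^ k := by rw [mul_assoc, ← e, mul_inv_cancel_left]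
  -- conjugation by the swapper
  have hconj : ∀ α ∈ A, s * α * s⁻¹ = (f ^ k * α * (f ^ k)⁻¹)⁻¹ := by
    intro α hα
    have hγ := h.normA _ (h.f_zpow_fix k).1 (h.f_zpow_fix k).2 α hα
    calc s * α * s⁻¹ = u * (β * (f ^ k * α * (f ^ k)⁻¹) * β⁻¹) * u⁻¹ := by rw [es]; group
      _ = u * (f ^ k * α * (f ^ k)⁻¹) * u⁻¹ := by
        rw [h.commA β hβ _ hγ, mul_inv_cancel_right]
      _ = _ := h.u_inv _ hγ
  have hs2 : s * s = 1 := by rw [← sq, ← hs, pow_orderOf_eq_one]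
  have hk : f ^ k = 1 := by
    obtain ⟨⟨α, hα⟩, hne⟩ : ∃ α : A, α ≠ 1 := by
      by_contra hcon
      push Not at hcon
      have := h.one_lt_card
      rw [Nat.card_eq_one_iff_unique.2 ⟨⟨fun x y => by rw [hcon x, hcon y]⟩, ⟨1⟩⟩] at this
      omega
    have hγ := h.normA _ (h.f_zpow_fix k).1 (h.f_zpow_fix k).2 α hα
    have h1 : f ^ (2 * k) * α * (f ^ (2 * k))⁻¹ = α := by
      have h2 : s * (s * α * s⁻¹) * s⁻¹ = α := by
        rw [show s * (s * α * s⁻¹) * s⁻¹ = (s * s) * α * (s * s)⁻¹ by group, hs2]; simp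
      rw [hconj α hα, hconj _ (A.inv_mem hγ)] at h2
      conv_rhs => rw [← h2]
      rw [two_mul, zpow_add]
      group
    refine h.f_zpow_two ((h.f_zpow_mem_iff _).1 (h.centA α hα (fun e => hne (Subtype.ext e)) _ ?_))
    exact mul_inv_eq_iff_eq_mul.1 h1
  refine ⟨fun α hα => by rw [hconj α hα, hk]; simp, fun d hd1 hd2 hd => ?_⟩
  obtain ⟨γ, hγ, i, rfl⟩ := h.exists_eq_mul hd1 hd2
  rw [es, hk, mul_one] at hd
  have hfi := h.normA _ (h.f_zpow_fix i).1 (h.f_zpow_fix i).2 β⁻¹ (A.inv_mem hβ)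
  have hA1 : β * γ * (f ^ i * β⁻¹ * (f ^ i)⁻¹) ∈ A := A.mul_mem (A.mul_mem hβ hγ) hfi
  have h3 : (β * γ * (f ^ i * β⁻¹ * (f ^ i)⁻¹))⁻¹ * f ^ i = (γ * f ^ i)⁻¹ := by
    rw [← hd, ← h.u_inv _ hA1]
    calc u * (β * γ * (f ^ i * β⁻¹ * (f ^ i)⁻¹)) * u⁻¹ * f ^ i
        = u * (β * γ * (f ^ i * β⁻¹ * (f ^ i)⁻¹)) * (u⁻¹ * f ^ i * u) * u⁻¹ := by group
      _ = u * (β * γ * (f ^ i * β⁻¹ * (f ^ i)⁻¹)) * f ^ i * u⁻¹ := by
        rw [mul_assoc u⁻¹, ← h.u_zpow i, inv_mul_cancel_left]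
      _ = _ := by group
  have h4 : f ^ (2 * i) ∈ A := by
    have e4 : f ^ i * f ^ i = f ^ i * ((β * γ * (f ^ i * β⁻¹ * (f ^ i)⁻¹)) *
        ((f ^ i)⁻¹ * γ⁻¹)) := by
      have := congrArg (fun x => f ^ i * ((β * γ * (f ^ i * β⁻¹ * (f ^ i)⁻¹)) * x)) h3
      simpa [mul_inv_rev, mul_assoc] using this
    rw [two_mul, zpow_add, e4,
      show f ^ i * (β * γ * (f ^ i * β⁻¹ * (f ^ i)⁻¹) * ((f ^ i)⁻¹ * γ⁻¹)) =
        f ^ i * (β * γ * (f ^ i * β⁻¹ * (f ^ i)⁻¹)) * (f ^ i)⁻¹ * γ⁻¹ by group]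
    exact A.mul_mem (h.normA _ (h.f_zpow_fix i).1 (h.f_zpow_fix i).2 _ hA1) (A.inv_mem hγ)
  rw [h.f_zpow_two ((h.f_zpow_mem_iff _).1 h4), mul_one]
  exact hγ

/-- The stabiliser of the pair. -/
theorem torus : ∃ N : Subgroup G, Torus A N ∧ Nat.card N = 2 * p * Nat.card A := by
  classical
  let N : Subgroup G :=
    { carrier := {x | x • a = a ∧ x • b = b ∨ x • a = b ∧ x • b = a}
      one_mem' := Or.inl ⟨one_smul _ _, one_smul _ _⟩
      mul_mem' := by
        rintro x y (⟨h1, h2⟩ | ⟨h1, h2⟩) (⟨h3, h4⟩ | ⟨h3, h4⟩)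
        · exact Or.inl ⟨by rw [mul_smul, h3, h1], by rw [mul_smul, h4, h2]⟩
        · exact Or.inr ⟨by rw [mul_smul, h3, h2], by rw [mul_smul, h4, h1]⟩
        · exact Or.inr ⟨by rw [mul_smul, h3, h1], by rw [mul_smul, h4, h2]⟩
        · exact Or.inl ⟨by rw [mul_smul, h3, h2], by rw [mul_smul, h4, h1]⟩
      inv_mem' := by
        rintro x (⟨h1, h2⟩ | ⟨h1, h2⟩)
        · exact Or.inl ⟨inv_smul_eq_iff.2 h1.symm, inv_smul_eq_iff.2 h2.symm⟩
        · exact Or.inr ⟨inv_smul_eq_iff.2 h2.symm, inv_smul_eq_iff.2 h1.symm⟩ }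
  have hmem : ∀ x, x ∈ N ↔ x • a = a ∧ x • b = b ∨ x • a = b ∧ x • b = a := fun x => Iff.rfl
  refine ⟨N, ⟨h.commA, fun α hα => Or.inl (h.fixA α hα), ?_, ?_,
    fun α hα hne x _ hx => h.centA α hα hne x (mul_inv_eq_iff_eq_mul.1 hx)⟩, ?_⟩
  · rintro x (⟨h1, h2⟩ | ⟨h1, h2⟩) α hα
    · exact h.normA x h1 h2 α hα
    · have hy := h.normA (u⁻¹ * x) (by rw [mul_smul, h1, inv_smul_eq_iff, h.u_swap.1])
        (by rw [mul_smul, h2, inv_smul_eq_iff, h.u_swap.2]) α hα
      have := h.u_inv _ hy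
      rw [show x * α * x⁻¹ = u * (u⁻¹ * x * α * (u⁻¹ * x)⁻¹) * u⁻¹ by group, this]
      exact A.inv_mem hy
  · intro α hα hne x hx
    have hne' : x * α * x⁻¹ ≠ 1 := fun e => hne (by simpa using e)
    have hfix : ∀ z : Ω, α • z = z → (x * α * x⁻¹) • (x • z) = x • z := fun z hz => by
      rw [mul_smul, mul_smul, inv_smul_smul, hz]
    rw [hmem]
    have hab : x • a ≠ x • b := fun e => h.ne (MulAction.injective x e)
    rcases h.fixedA _ hx hne' _ (hfix a (h.fixA α hα).1) with h1 | h1 <;>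
      rcases h.fixedA _ hx hne' _ (hfix b (h.fixA α hα).2) with h2 | h2
    · exact absurd (h1.trans h2.symm) hab
    · exact Or.inl ⟨h1, h2⟩
    · exact Or.inr ⟨h1, h2⟩
    · exact absurd (h1.trans h2.symm) hab
  · let ψ : {x : G // x • a = a ∧ x • b = b} ⊕ {x : G // x • a = a ∧ x • b = b} → N := fun y =>
      match y with
      | Sum.inl x => ⟨x.1, Or.inl x.2⟩
      | Sum.inr x => ⟨u * x.1, Or.inr ⟨by rw [mul_smul, x.2.1, h.u_swap.1],
          by rw [mul_smul, x.2.2, h.u_swap.2]⟩⟩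
    have hbij : Function.Bijective ψ := by
      constructor
      · rintro (⟨x, hx⟩ | ⟨x, hx⟩) (⟨y, hy⟩ | ⟨y, hy⟩) e <;>
          have e' := congrArg Subtype.val e <;> simp only [ψ] at e'
        · subst e'; rfl
        · subst e'
          exact absurd (by rw [← hx.1, mul_smul, hy.1, h.u_swap.1]) h.ne
        · subst e'
          exact absurd (by rw [← hy.1, mul_smul, hx.1, h.u_swap.1]) h.ne
        · obtain rfl := mul_left_cancel e'; rfl
      · rintro ⟨x, (hx | ⟨h1, h2⟩)⟩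
        · exact ⟨Sum.inl ⟨x, hx⟩, rfl⟩
        · exact ⟨Sum.inr ⟨u⁻¹ * x, by rw [mul_smul, h1, inv_smul_eq_iff, h.u_swap.1],
            by rw [mul_smul, h2, inv_smul_eq_iff, h.u_swap.2]⟩, Subtype.ext (mul_inv_cancel_left u x)⟩
    rw [← Nat.card_eq_of_bijective ψ hbij, Nat.card_sum, h.cardD, h.cardA]
    ring

/-- The number of points is two modulo the order of `A`. -/
theorem card_points [Finite Ω] :
    (2 ^ p - 1 : ℤ) ∣ (Nat.card Ω : ℤ) - 2 ∧ 3 ≤ Nat.card Ω := by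
  classical
  haveI := Fintype.ofFinite Ω
  haveI := Fintype.ofFinite A
  haveI : Fintype (orbitRel.Quotient A Ω) := Fintype.ofFinite _
  constructor
  · have hB := sum_card_fixedBy_eq_card_orbits_mul_card_group A Ω
    have hval : ∀ α : A, Fintype.card (fixedBy Ω α) =
        if α = 1 then Fintype.card Ω else 2 := by
      intro α
      split_ifs with e
      · subst e
        exact Fintype.card_congr ⟨Subtype.val, fun z => ⟨z, one_smul _ _⟩, fun _ => rfl, fun _ => rfl⟩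
      · rw [Fintype.card_congr (Equiv.subtypeEquivRight (q := fun z => z ∈ ({a, b} : Finset Ω))
          fun z => ?_), Fintype.card_coe, Finset.card_pair h.ne]
        rw [Finset.mem_insert, Finset.mem_singleton, mem_fixedBy]
        refine ⟨h.fixedA α α.2 (fun e' => e (Subtype.ext e')) z, ?_⟩
        rintro (rfl | rfl)
        · exact (h.fixA α α.2).1
        · exact (h.fixA α α.2).2
    have hsum : ∑ α : A, (if α = 1 then Fintype.card Ω else 2) =
        Fintype.card Ω + (Fintype.card A - 1) * 2 := by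
      rw [← Finset.add_sum_erase _ _ (Finset.mem_univ (1 : A)), if_pos rfl,
        Finset.sum_congr rfl fun x hx => if_neg (Finset.ne_of_mem_erase hx)]
      simp
    rw [Finset.sum_congr rfl fun α _ => hval α, hsum] at hB
    simp only [← Nat.card_eq_fintype_card, h.cardA] at hB
    have h8 := h.eight_le
    refine ⟨(Nat.card (Quotient (orbitRel A Ω)) : ℤ) - 2, ?_⟩
    have := congrArg (Nat.cast : ℕ → ℤ) hB
    push_cast [Nat.cast_sub (show 1 ≤ 2 ^ p - 1 by omega), Nat.cast_sub (show 1 ≤ 2 ^ p by omega)]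
      at this
    linarith
  · have h1 : t • b ≠ a := fun e => h.ne (MulAction.injective t (show t • a = t • b by rw [h.t_fix, e]))
    have h2 := h.t_moves h.ne.symm
    calc 3 = ({a, b, t • b} : Finset Ω).card := by
          rw [Finset.card_insert_of_notMem (by simp [h.ne, h1.symm]), Finset.card_pair h2.symm]
      _ ≤ Nat.card Ω := by rw [Nat.card_eq_fintype_card]; exact Finset.card_le_univ _

end FieldLine

end Cfsg.Agent.H70.SE
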